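import Mathlib
import Groth.Prelude.Def_W4c1arstab1appArSing
import Groth.Agent.Lib.Helper5.CA.PSAdicSmooth

set_option autoImplicit false
universe u

namespace H5ArSing

open MvPowerSeries

section ext

variable {k : Type u} [Field k]

/-- algebra maps out of `k⟦X⟧` into a ring separated for an ideal containing the image of `X` are
determined by the image of `X`. -/
theorem ext_P {B : Type*} [CommRing B] [Algebra k B] (I : Ideal B) (hI : ⨅ n, I ^ n = ⊥)
    (f g : PowerSeries k →ₐ[k] B) (hf : f PowerSeries.X ∈ I) (h : f PowerSeries.X = g PowerSeries.X) :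
    f = g := by
  have hpoly : ∀ p : Polynomial k, f (p : PowerSeries k) = g (p : PowerSeries k) := by
    intro p
    have : f.comp (Polynomial.coeToPowerSeries.algHom k) =
        g.comp (Polynomial.coeToPowerSeries.algHom k) := by
      apply Polynomial.algHom_ext
      simp [h]
    exact DFunLike.congr_fun this p
  ext s
  rw [← sub_eq_zero, ← Ideal.mem_bot, ← hI, Ideal.mem_iInf]
  intro n
  have hs := PowerSeries.eq_X_pow_mul_shift_add_trunc n s
  set s' : PowerSeries k := (PowerSeries.mk fun i ↦ PowerSeries.coeff (i + n) s) with hs'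
  have e1 : f s = f PowerSeries.X ^ n * f s' + f ↑(PowerSeries.trunc n s) := by
    have := congrArg f hs
    rwa [map_add, map_mul, map_pow] at this
  have e2 : g s = g PowerSeries.X ^ n * g s' + g ↑(PowerSeries.trunc n s) := by
    have := congrArg g hs
    rwa [map_add, map_mul, map_pow] at this
  rw [e1, e2, hpoly, ← h]
  have : f PowerSeries.X ^ n * f s' + g ↑(PowerSeries.trunc n s) -
      (f PowerSeries.X ^ n * g s' + g ↑(PowerSeries.trunc n s)) =
      f PowerSeries.X ^ n * (f s' - g s') := by ring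
  rw [this]
  exact Ideal.mul_mem_right _ _ (Ideal.pow_mem_pow hf n)

/-- the same for `k[[x_1..x_n]]` -/
theorem ext_Mv {n : ℕ} {B : Type*} [CommRing B] [Algebra k B] (I : Ideal B) (hI : ⨅ n, I ^ n = ⊥)
    (f g : MvPowerSeries (Fin n) k →ₐ[k] B) (hf : ∀ i, f (X i) ∈ I) (h : ∀ i, f (X i) = g (X i)) :
    f = g := by
  have hpoly : f.comp (MvPolynomial.coeToMvPowerSeries.algHom (σ := Fin n) k) =
      g.comp (MvPolynomial.coeToMvPowerSeries.algHom (σ := Fin n) k) := by
    apply MvPolynomial.algHom_ext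
    intro i
    simp [h i]
  have hg : ∀ i, g (X i) ∈ I := fun i => h i ▸ hf i
  have hmap : ∀ (φ : MvPowerSeries (Fin n) k →ₐ[k] B), (∀ i, φ (X i) ∈ I) → ∀ m,
      ∀ x ∈ Ideal.span (Set.range (X : Fin n → MvPowerSeries (Fin n) k)) ^ m, φ x ∈ I ^ m := by
    intro φ hφ m x hx
    have h1 : (Ideal.span (Set.range (X : Fin n → MvPowerSeries (Fin n) k))).map φ ≤ I := by
      rw [Ideal.map_span, Ideal.span_le]
      rintro _ ⟨_, ⟨i, rfl⟩, rfl⟩
      exact hφ i
    have h2 := Ideal.mem_map_of_mem φ hx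
    rw [Ideal.map_pow] at h2
    exact Ideal.pow_right_mono h1 m h2
  ext s
  rw [← sub_eq_zero, ← Ideal.mem_bot, ← hI, Ideal.mem_iInf]
  intro m
  have h1 := Groth.Agent.H5.CA.sub_truncTotal_mem_pow m s
  have h2 : s = (s - ((truncTotal m s : MvPolynomial (Fin n) k) : MvPowerSeries (Fin n) k)) +
      ((truncTotal m s : MvPolynomial (Fin n) k) : MvPowerSeries (Fin n) k) := by ring
  have h3 : f ((truncTotal m s : MvPolynomial (Fin n) k) : MvPowerSeries (Fin n) k) =
      g ((truncTotal m s : MvPolynomial (Fin n) k) : MvPowerSeries (Fin n) k) :=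
    DFunLike.congr_fun hpoly (truncTotal m s)
  rw [h2, map_add, map_add, h3, add_sub_add_right_eq_sub]
  exact sub_mem (hmap f hf m _ h1) (hmap g hg m _ h1)

end ext



section loc

variable (k : Type u) [Field k] (r : ℕ)

/-- the augmentation `A_r → k` -/
noncomputable def aug : ArSing.ring k r →+* k :=
  Ideal.Quotient.lift _ (constantCoeff (σ := Fin 2) (R := k)) (by
    intro a ha
    rw [Ideal.mem_span_singleton] at ha
    obtain ⟨c, rfl⟩ := ha
    simp [ArSing.eqn])

lemma aug_mk (f : MvPowerSeries (Fin 2) k) :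
    aug k r (Ideal.Quotient.mk _ f) = constantCoeff f := rfl

lemma aug_x : aug k r (ArSing.x k r) = 0 := by simp [aug_mk]
lemma aug_y : aug k r (ArSing.y k r) = 0 := by simp [aug_mk]

instance : Nontrivial (ArSing.ring k r) :=
  (aug k r).domain_nontrivial

instance : IsLocalRing (ArSing.ring k r) :=
  IsLocalRing.of_surjective' (Ideal.Quotient.mk (Ideal.span {ArSing.eqn k r}))
    Ideal.Quotient.mk_surjective

/-- the ideal `(x, y)` -/
noncomputable def 𝔫 : Ideal (ArSing.ring k r) := Ideal.span {ArSing.x k r, ArSing.y k r}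

lemma x_mem : ArSing.x k r ∈ 𝔫 k r := Ideal.subset_span (by simp)
lemma y_mem : ArSing.y k r ∈ 𝔫 k r := Ideal.subset_span (by simp)

lemma 𝔫_le_ker : 𝔫 k r ≤ RingHom.ker (aug k r) := by
  rw [𝔫, Ideal.span_le]
  rintro z (rfl | rfl)
  · exact aug_x k r
  · exact aug_y k r

lemma 𝔫_ne_top : 𝔫 k r ≠ ⊤ := by
  intro h
  have : (1 : ArSing.ring k r) ∈ RingHom.ker (aug k r) := 𝔫_le_ker k r (h ▸ Submodule.mem_top)
  rw [RingHom.mem_ker, map_one] at this
  exact one_ne_zero this

theorem sep : ⨅ n, 𝔫 k r ^ n = ⊥ :=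
  Ideal.iInf_pow_eq_bot_of_isLocalRing _ (𝔫_ne_top k r)

/-- algebra maps out of `A_m` into a separated ring are determined by the images of `x`, `y`. -/
theorem ext_A {B : Type*} [CommRing B] [Algebra k B] (I : Ideal B) (hI : ⨅ n, I ^ n = ⊥)
    (f g : ArSing.ring k r →ₐ[k] B) (hfx : f (ArSing.x k r) ∈ I) (hfy : f (ArSing.y k r) ∈ I)
    (hx : f (ArSing.x k r) = g (ArSing.x k r)) (hy : f (ArSing.y k r) = g (ArSing.y k r)) :
    f = g := by
  have h := ext_Mv I hI (f.comp (Ideal.Quotient.mkₐ k _)) (g.comp (Ideal.Quotient.mkₐ k _))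
    (by
      intro i
      fin_cases i
      · exact hfx
      · exact hfy)
    (by
      intro i
      fin_cases i
      · exact hx
      · exact hy)
  ext z
  obtain ⟨z, rfl⟩ := Ideal.Quotient.mk_surjective z
  exact DFunLike.congr_fun h z

end loc

end H5ArSing
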