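import Mathlib
import Groth.Agent.Lib.Helper3.PLenA

/-!
# Quotients of a Noetherian local ring: an invariant (helper5, for S14311)

`R/(G)` and `R/(H)` are not isomorphic as rings when `G ∈ 𝔪^n` but `H ∈ 𝔪 \ 𝔪^n`.
-/

set_option autoImplicit false

namespace H5ArSing.NoIso

open IsLocalRing

variable {R : Type*} [CommRing R] [IsLocalRing R]

/-- the maximal ideal of a nontrivial quotient of a local ring. -/
lemma map_mk_maximalIdeal (K : Ideal R) (hK : K ≠ ⊤) :
    haveI : Nontrivial (R ⧸ K) := Ideal.Quotient.nontrivial_iff.mpr hK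
    haveI := IsLocalRing.of_surjective' (Ideal.Quotient.mk K) Ideal.Quotient.mk_surjective
    (maximalIdeal R).map (Ideal.Quotient.mk K) = maximalIdeal (R ⧸ K) := by
  haveI : Nontrivial (R ⧸ K) := Ideal.Quotient.nontrivial_iff.mpr hK
  haveI := IsLocalRing.of_surjective' (Ideal.Quotient.mk K) Ideal.Quotient.mk_surjective
  haveI := IsLocalHom.of_surjective (Ideal.Quotient.mk K) Ideal.Quotient.mk_surjective
  ext x
  obtain ⟨x, rfl⟩ := Ideal.Quotient.mk_surjective x
  simp [sup_eq_left.mpr (le_maximalIdeal hK)]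

/-- a ring isomorphism of local rings maps the maximal ideal onto the maximal ideal. -/
lemma map_maximalIdeal_of_equiv {A B : Type*} [CommRing A] [CommRing B] [IsLocalRing A]
    [IsLocalRing B] (e : A ≃+* B) :
    (maximalIdeal A).map (e : A →+* B) = maximalIdeal B := by
  ext x
  obtain ⟨x, rfl⟩ := e.surjective x
  rw [Ideal.mem_map_iff_of_surjective (e : A →+* B) e.surjective]
  constructor
  · rintro ⟨y, hy, hxy⟩
    have : y = x := e.injective hxy
    subst this
    rw [mem_maximalIdeal, mem_nonunits_iff] at hy ⊢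
    intro h
    apply hy
    have := h.map (e.symm : B →+* A)
    simpa using this
  · intro hx
    refine ⟨x, ?_, rfl⟩
    rw [mem_maximalIdeal, mem_nonunits_iff] at hx ⊢
    intro h
    exact hx (h.map (e : A →+* B))

/-- a ring isomorphism `R/K₁ ≃ R/K₂` induces one `R/(K₁ + 𝔪^n) ≃ R/(K₂ + 𝔪^n)`. -/
theorem nonempty_equiv_sup_pow (K₁ K₂ : Ideal R) (h₁ : K₁ ≠ ⊤) (h₂ : K₂ ≠ ⊤)
    (e : (R ⧸ K₁) ≃+* (R ⧸ K₂)) (n : ℕ) :
    Nonempty ((R ⧸ (K₁ ⊔ maximalIdeal R ^ n)) ≃+* (R ⧸ (K₂ ⊔ maximalIdeal R ^ n))) := by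
  haveI : Nontrivial (R ⧸ K₁) := Ideal.Quotient.nontrivial_iff.mpr h₁
  haveI := IsLocalRing.of_surjective' (Ideal.Quotient.mk K₁) Ideal.Quotient.mk_surjective
  haveI : Nontrivial (R ⧸ K₂) := Ideal.Quotient.nontrivial_iff.mpr h₂
  haveI := IsLocalRing.of_surjective' (Ideal.Quotient.mk K₂) Ideal.Quotient.mk_surjective
  have e1 := map_mk_maximalIdeal K₁ h₁
  have e2 := map_mk_maximalIdeal K₂ h₂
  have e3 := map_maximalIdeal_of_equiv e
  have key : ((maximalIdeal R ^ n).map (Ideal.Quotient.mk K₂)) =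
      ((maximalIdeal R ^ n).map (Ideal.Quotient.mk K₁)).map (e : (R ⧸ K₁) →+* (R ⧸ K₂)) := by
    rw [Ideal.map_pow, Ideal.map_pow, Ideal.map_pow, e1, e2, e3]
  exact ⟨(DoubleQuot.quotQuotEquivQuotSup K₁ (maximalIdeal R ^ n)).symm.trans
    ((Ideal.quotientEquiv _ _ e key).trans
      (DoubleQuot.quotQuotEquivQuotSup K₂ (maximalIdeal R ^ n)))⟩

variable [IsNoetherianRing R]

/-- a quotient by an ideal containing a power of the maximal ideal has finite length. -/
lemma length_quot_ne_top (I : Ideal R) (n : ℕ) (hn : maximalIdeal R ^ n ≤ I) :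
    Module.length R (R ⧸ I) ≠ ⊤ := by
  by_cases hI : I = ⊤
  · subst hI
    rw [Module.length_eq_zero]
    exact ENat.zero_ne_top
  haveI : Nontrivial (R ⧸ I) := Ideal.Quotient.nontrivial_iff.mpr hI
  haveI := IsLocalRing.of_surjective' (Ideal.Quotient.mk I) Ideal.Quotient.mk_surjective
  have e1 := map_mk_maximalIdeal I hI
  haveI : IsArtinianRing (R ⧸ I) := by
    rw [isArtinianRing_iff_isNilpotent_maximalIdeal]
    refine ⟨n, ?_⟩
    rw [← e1, ← Ideal.map_pow, Ideal.zero_eq_bot, Ideal.map_eq_bot_iff_le_ker, Ideal.mk_ker]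
    exact hn
  rw [Module.length_eq_of_surjective (S := R) (R := R ⧸ I) (M := R ⧸ I)
    Ideal.Quotient.mk_surjective]
  exact Module.length_ne_top

/-- comparable ideals, both containing a power of the maximal ideal, with isomorphic quotients
are equal. -/
theorem eq_of_quot_equiv (I J : Ideal R) (hIJ : I ≤ J) (n : ℕ) (hn : maximalIdeal R ^ n ≤ I)
    (e : (R ⧸ I) ≃+* (R ⧸ J)) : I = J := by
  have hI := length_quot_ne_top I n hn
  have h1 : Module.length R (R ⧸ I) = Module.length R (R ⧸ J) := by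
    rw [Module.length_eq_of_surjective (S := R) (R := R ⧸ I) (M := R ⧸ I)
      Ideal.Quotient.mk_surjective,
      Module.length_eq_of_surjective (S := R) (R := R ⧸ J) (M := R ⧸ J)
      Ideal.Quotient.mk_surjective]
    exact Groth.Agent.H3.PLen.length_eq_of_ringEquiv e
  -- the projection `R/I → R/J`
  let g : (R ⧸ I) →ₗ[R] (R ⧸ J) := Submodule.liftQ I (Submodule.mkQ J) (by
    intro x hx
    rw [LinearMap.mem_ker, Submodule.mkQ_apply, Submodule.Quotient.mk_eq_zero]
    exact hIJ hx)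
  have hg : Function.Surjective g := by
    intro y
    obtain ⟨y, rfl⟩ := Submodule.mkQ_surjective J y
    exact ⟨Submodule.mkQ I y, rfl⟩
  have h2 := Module.length_eq_add_of_exact (LinearMap.ker g).subtype g
    (Submodule.injective_subtype _) hg (LinearMap.exact_subtype_ker_map g)
  rw [h1] at h2 hI
  have h3 : Module.length R (LinearMap.ker g) = 0 := by
    by_contra h
    have hpos : 0 < Module.length R (LinearMap.ker g) := pos_iff_ne_zero.mpr h
    have : Module.length R (R ⧸ J) < Module.length R (LinearMap.ker g) + Module.length R (R ⧸ J) :=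
      ENat.lt_add_left hI hpos
    rw [← h2] at this
    exact lt_irrefl _ this
  rw [Module.length_eq_zero_iff] at h3
  refine le_antisymm hIJ fun x hx => ?_
  have hx' : Submodule.mkQ I x ∈ LinearMap.ker g := by
    rw [LinearMap.mem_ker]
    change Submodule.mkQ J x = 0
    rw [Submodule.mkQ_apply, Submodule.Quotient.mk_eq_zero]
    exact hx
  have : (⟨Submodule.mkQ I x, hx'⟩ : LinearMap.ker g) = 0 := Subsingleton.elim _ _
  have h4 : Submodule.mkQ I x = 0 := congrArg Subtype.val this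
  rwa [Submodule.mkQ_apply, Submodule.Quotient.mk_eq_zero] at h4

/-- **the invariant**: `R/(G) ≄ R/(H)` when `G ∈ 𝔪^n`, `H ∈ 𝔪`, `H ∉ 𝔪^n`. -/
theorem isEmpty_equiv (G H : R) (n : ℕ) (hn : n ≠ 0) (hG : G ∈ maximalIdeal R ^ n)
    (hH : H ∈ maximalIdeal R) (hH' : H ∉ maximalIdeal R ^ n) :
    IsEmpty ((R ⧸ Ideal.span {G}) ≃+* (R ⧸ Ideal.span {H})) := by
  refine ⟨fun e => hH' ?_⟩
  have hG1 : G ∈ maximalIdeal R := Ideal.pow_le_self hn hG
  have h₁ : Ideal.span {G} ≠ ⊤ := by
    intro h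
    have : Ideal.span {G} ≤ maximalIdeal R := (Ideal.span_singleton_le_iff_mem _).mpr hG1
    rw [h] at this
    exact (Ideal.IsMaximal.ne_top inferInstance) (top_le_iff.mp this)
  have h₂ : Ideal.span {H} ≠ ⊤ := by
    intro h
    have : Ideal.span {H} ≤ maximalIdeal R := (Ideal.span_singleton_le_iff_mem _).mpr hH
    rw [h] at this
    exact (Ideal.IsMaximal.ne_top inferInstance) (top_le_iff.mp this)
  obtain ⟨e'⟩ := nonempty_equiv_sup_pow _ _ h₁ h₂ e n
  have hle : Ideal.span {G} ⊔ maximalIdeal R ^ n ≤ Ideal.span {H} ⊔ maximalIdeal R ^ n := by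
    refine sup_le ?_ le_sup_right
    rw [Ideal.span_singleton_le_iff_mem]
    exact Ideal.mem_sup_right hG
  have heq := eq_of_quot_equiv _ _ hle n le_sup_right e'
  have h5 : Ideal.span {G} ⊔ maximalIdeal R ^ n = maximalIdeal R ^ n := by
    rw [sup_eq_right, Ideal.span_singleton_le_iff_mem]
    exact hG
  rw [h5] at heq
  rw [heq]
  exact Ideal.mem_sup_left (Ideal.mem_span_singleton_self H)

end H5ArSing.NoIso
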