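import Mathlib
import Groth.Agent.Lib.Helper5.FSm.PSComplete

/-!
# Taylor coefficients of a recentred polynomial (helper5, for S14311)
-/

set_option autoImplicit false
universe u

namespace H5ArSing.Taylor

open MvPolynomial

variable {k : Type u} [Field k] {σ : Type*} (a : σ → k)

/-- recentring at `a`. -/
noncomputable def T : MvPolynomial σ k →ₐ[k] MvPolynomial σ k :=
  aeval (fun i => X i + C (a i))

lemma T_X (i : σ) : T a (X i) = X i + C (a i) := by simp [T]

lemma T_C (c : k) : T a (C c : MvPolynomial σ k) = C c := by simp [T]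

lemma constantCoeff_T (g : MvPolynomial σ k) : constantCoeff (T a g) = eval a g := by
  have h : (constantCoeff : MvPolynomial σ k →+* k).comp (T a : MvPolynomial σ k →+* MvPolynomial σ k)
      = eval a := by
    apply MvPolynomial.ringHom_ext
    · intro c
      simp [T]
    · intro i
      simp [T]
  exact DFunLike.congr_fun h g

lemma pderiv_T [DecidableEq σ] (i : σ) (g : MvPolynomial σ k) :
    pderiv i (T a g) = T a (pderiv i g) := by
  induction g using MvPolynomial.induction_on with
  | C c => simp
  | add p q hp hq => simp [hp, hq]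
  | mul_X p j hp =>
    rw [map_mul, T_X, Derivation.leibniz, Derivation.leibniz, hp, map_add, pderiv_C,
      pderiv_X, add_zero, map_add, smul_eq_mul, smul_eq_mul, smul_eq_mul, smul_eq_mul, map_mul,
      map_mul, T_X]
    congr 1
    by_cases h : j = i
    · subst h
      simp
    · rw [Pi.single_apply, if_neg h]
      simp

lemma coeff_single_T [DecidableEq σ] (i : σ) (f : MvPolynomial σ k) :
    coeff (Finsupp.single i 1) (T a f) = eval a (pderiv i f) := by
  rw [← constantCoeff_T, ← pderiv_T, constantCoeff_eq, coeff_pderiv]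
  simp

lemma coeff_single_add_T [DecidableEq σ] (i j : σ) (f : MvPolynomial σ k) :
    coeff (Finsupp.single j 1 + Finsupp.single i 1) (T a f) *
      (((Finsupp.single j 1 : σ →₀ ℕ) i : k) + 1) = eval a (pderiv j (pderiv i f)) := by
  rw [← coeff_single_T, ← pderiv_T, coeff_pderiv]

end H5ArSing.Taylor

namespace H5ArSing.Taylor

open MvPowerSeries

variable {k : Type u} [Field k]

/-- membership in a power of the maximal ideal of `k[[x_1..x_n]]`, in terms of coefficients. -/
theorem mem_maximalIdeal_pow_iff (n j : ℕ) (F : MvPowerSeries (Fin n) k) :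
    F ∈ IsLocalRing.maximalIdeal (MvPowerSeries (Fin n) k) ^ j ↔
      ∀ β : Fin n →₀ ℕ, β.degree < j → coeff β F = 0 := by
  have h : IsLocalRing.maximalIdeal (MvPowerSeries (Fin n) k) =
      Groth.Agent.H5.FSm.psIdeal (IsLocalRing.maximalIdeal k) n := by
    rw [Groth.Agent.H5.Cohen2.maximalIdeal_mvPowerSeries, Groth.Agent.H5.CA.ker_constantCoeff_eq_span,
      Groth.Agent.H5.FSm.psIdeal]
  rw [h, Groth.Agent.H5.FSm.mem_psIdeal_pow_iff]
  constructor
  · intro H β hβ
    have := H β
    rw [IsLocalRing.maximalIdeal_eq_bot] at this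
    have hne : j - β.degree ≠ 0 := by omega
    rw [Ideal.bot_pow hne] at this
    exact this
  · intro H β
    by_cases hβ : β.degree < j
    · rw [H β hβ]
      exact zero_mem _
    · have : j - β.degree = 0 := by omega
      rw [this, pow_zero, Ideal.one_eq_top]
      trivial

end H5ArSing.Taylor

namespace H5ArSing.Taylor

open MvPowerSeries

variable {k : Type u} [Field k]

lemma exists_eq_add_single {σ : Type*} (β : σ →₀ ℕ) (n : ℕ) (h : β.degree = n + 1) :
    ∃ (i : σ) (β' : σ →₀ ℕ), β = β' + Finsupp.single i 1 ∧ β'.degree = n := by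
  classical
  have hne : β ≠ 0 := by
    rintro rfl
    simp at h
  obtain ⟨i, hi⟩ := Finsupp.ne_iff.mp hne
  have hi' : 1 ≤ β i := Nat.one_le_iff_ne_zero.mpr (by simpa using hi)
  refine ⟨i, β - Finsupp.single i 1, ?_, ?_⟩
  · ext j
    by_cases hj : j = i
    · subst hj
      simp only [Finsupp.coe_add, Finsupp.coe_tsub, Pi.add_apply, Pi.sub_apply,
        Finsupp.single_eq_same]
      omega
    · simp [Finsupp.single_apply, Ne.symm hj]
  · have h1 : β = (β - Finsupp.single i 1) + Finsupp.single i 1 := by
      ext j
      by_cases hj : j = i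
      · subst hj
        simp only [Finsupp.coe_add, Finsupp.coe_tsub, Pi.add_apply, Pi.sub_apply,
          Finsupp.single_eq_same]
        omega
      · simp [Finsupp.single_apply, Ne.symm hj]
    have h2 := congrArg Finsupp.degree h1
    rw [map_add, Finsupp.degree_single, h] at h2
    omega

variable (a : Fin 2 → k) (f : MvPolynomial (Fin 2) k)

/-- the recentred polynomial as a power series. -/
noncomputable def F : MvPowerSeries (Fin 2) k :=
  ((T a f : MvPolynomial (Fin 2) k) : MvPowerSeries (Fin 2) k)

lemma F_def : F a f = (MvPolynomial.aeval (fun i : Fin 2 => MvPolynomial.X i + MvPolynomial.C (a i))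
    f).toMvPowerSeries := rfl

lemma F_mem_maximalIdeal_iff :
    F a f ∈ IsLocalRing.maximalIdeal (MvPowerSeries (Fin 2) k) ↔ MvPolynomial.eval a f = 0 := by
  rw [← pow_one (IsLocalRing.maximalIdeal (MvPowerSeries (Fin 2) k)), mem_maximalIdeal_pow_iff]
  constructor
  · intro H
    have := H 0 (by simp)
    rw [F, MvPolynomial.coeff_coe, ← MvPolynomial.constantCoeff_eq, constantCoeff_T] at this
    exact this
  · intro H β hβ
    have : β = 0 := by
      rw [← Finsupp.degree_eq_zero_iff]
      omega
    subst this
    rw [F, MvPolynomial.coeff_coe, ← MvPolynomial.constantCoeff_eq, constantCoeff_T]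
    exact H

lemma F_mem_cube_iff (h2 : (2 : k) ≠ 0) :
    F a f ∈ IsLocalRing.maximalIdeal (MvPowerSeries (Fin 2) k) ^ 3 ↔
      MvPolynomial.eval a f = 0 ∧
      (∀ i : Fin 2, MvPolynomial.eval a (MvPolynomial.pderiv i f) = 0) ∧
      ∀ i j : Fin 2, MvPolynomial.eval a (MvPolynomial.pderiv i (MvPolynomial.pderiv j f)) = 0 := by
  rw [mem_maximalIdeal_pow_iff]
  constructor
  · intro H
    refine ⟨?_, ?_, ?_⟩
    · have := H 0 (by simp)
      rw [F, MvPolynomial.coeff_coe, ← MvPolynomial.constantCoeff_eq, constantCoeff_T] at this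
      exact this
    · intro i
      have := H (Finsupp.single i 1) (by simp)
      rw [F, MvPolynomial.coeff_coe, coeff_single_T] at this
      exact this
    · intro i j
      have := H (Finsupp.single i 1 + Finsupp.single j 1) (by
        rw [map_add, Finsupp.degree_single, Finsupp.degree_single]; norm_num)
      rw [F, MvPolynomial.coeff_coe] at this
      rw [← coeff_single_add_T, this, zero_mul]
  · rintro ⟨H0, H1, H2⟩ β hβ
    rw [F, MvPolynomial.coeff_coe]
    have hcases : β.degree = 0 ∨ β.degree = 1 ∨ β.degree = 2 := by omega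
    rcases hcases with h | h | h
    · rw [Finsupp.degree_eq_zero_iff] at h
      subst h
      rw [← MvPolynomial.constantCoeff_eq, constantCoeff_T]
      exact H0
    · obtain ⟨i, β', rfl, hβ'⟩ := exists_eq_add_single β 0 h
      rw [Finsupp.degree_eq_zero_iff] at hβ'
      subst hβ'
      rw [zero_add, coeff_single_T]
      exact H1 i
    · obtain ⟨i, β', rfl, hβ'⟩ := exists_eq_add_single β 1 h
      obtain ⟨j, β'', rfl, hβ''⟩ := exists_eq_add_single β' 0 hβ'
      rw [Finsupp.degree_eq_zero_iff] at hβ''
      subst hβ''
      rw [zero_add]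
      have h3 := coeff_single_add_T a i j f
      rw [H2 j i] at h3
      rcases mul_eq_zero.mp h3 with h4 | h4
      · exact h4
      · exfalso
        by_cases hij : j = i
        · subst hij
          rw [Finsupp.single_eq_same] at h4
          apply h2
          rw [← h4]
          norm_num
        · rw [Finsupp.single_apply, if_neg hij] at h4
          simp at h4

end H5ArSing.Taylor
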