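import Mathlib
import Groth.Agent.Lib.Helper5.ArSing.Ext
import Groth.Agent.Lib.Helper5.ArSing.NoIso
import Groth.Agent.Lib.Helper5.ArSing.Taylor

/-!
# Linear coordinate changes of `k[[x,y]]` (helper5, for S14311)
-/

set_option autoImplicit false
universe u

namespace H5ArSing.Coord

open MvPowerSeries

variable {k : Type u} [Field k]

local notation "P" => MvPowerSeries (Fin 2) k

/-- the coefficient of `x^p y^q`. -/
noncomputable def cf (G : MvPowerSeries (Fin 2) k) (p q : ℕ) : k :=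
  coeff (Finsupp.single 0 p + Finsupp.single 1 q) G

lemma fin2_eq (β : Fin 2 →₀ ℕ) : β = Finsupp.single 0 (β 0) + Finsupp.single 1 (β 1) := by
  ext i
  fin_cases i <;> simp

lemma fin2_degree (β : Fin 2 →₀ ℕ) : β.degree = β 0 + β 1 := by
  rw [Finsupp.degree_eq_sum, Fin.sum_univ_two]

lemma single_add_single_inj (p q p' q' : ℕ) :
    (Finsupp.single 0 p + Finsupp.single 1 q : Fin 2 →₀ ℕ) =
      Finsupp.single 0 p' + Finsupp.single 1 q' ↔ p = p' ∧ q = q' := by
  constructor
  · intro h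
    have h0 := DFunLike.congr_fun h 0
    have h1 := DFunLike.congr_fun h 1
    simp at h0 h1
    exact ⟨h0, h1⟩
  · rintro ⟨rfl, rfl⟩
    rfl

theorem mem_pow_iff (j : ℕ) (G : MvPowerSeries (Fin 2) k) :
    G ∈ IsLocalRing.maximalIdeal (MvPowerSeries (Fin 2) k) ^ j ↔
      ∀ p q, p + q < j → cf G p q = 0 := by
  rw [H5ArSing.Taylor.mem_maximalIdeal_pow_iff]
  constructor
  · intro H p q hpq
    apply H
    rw [fin2_degree]
    simpa using hpq
  · intro H β hβ
    rw [fin2_eq β]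
    apply H
    rw [fin2_degree] at hβ
    exact hβ

lemma cf_add (G H : MvPowerSeries (Fin 2) k) (p q : ℕ) : cf (G + H) p q = cf G p q + cf H p q :=
  map_add _ _ _

lemma cf_monomial (p q p' q' : ℕ) (b : k) :
    cf (monomial (Finsupp.single 0 p' + Finsupp.single 1 q') b) p q =
      if p = p' ∧ q = q' then b else 0 := by
  classical
  rw [cf, coeff_monomial]
  simp only [single_add_single_inj]

/-! ### the swap -/

/-- exchanging the two variables. -/
noncomputable def sw : MvPowerSeries (Fin 2) k ≃ₐ[k] MvPowerSeries (Fin 2) k :=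
  renameEquiv k (Equiv.swap (0 : Fin 2) 1)

lemma cf_sw (G : MvPowerSeries (Fin 2) k) (p q : ℕ) : cf (sw G) p q = cf G q p := by
  have h : (Finsupp.single 0 p + Finsupp.single 1 q : Fin 2 →₀ ℕ) =
      Finsupp.embDomain (Equiv.swap (0 : Fin 2) 1).toEmbedding
        (Finsupp.single 0 q + Finsupp.single 1 p) := by
    rw [Finsupp.embDomain_add, Finsupp.embDomain_single, Finsupp.embDomain_single]
    simp [add_comm]
  rw [cf, cf, h]
  exact coeff_embDomain_rename (Equiv.swap (0 : Fin 2) 1).toEmbedding G _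

lemma sw_X0 : sw (X 0 : MvPowerSeries (Fin 2) k) = X 1 := by
  simp [sw, renameEquiv]

lemma sw_X1 : sw (X 1 : MvPowerSeries (Fin 2) k) = X 0 := by
  simp [sw, renameEquiv]

/-! ### the shear -/

lemma sep_P : ⨅ n, IsLocalRing.maximalIdeal (MvPowerSeries (Fin 2) k) ^ n = ⊥ :=
  Ideal.iInf_pow_eq_bot_of_isLocalRing _ (Ideal.IsMaximal.ne_top inferInstance)

lemma X_mem (i : Fin 2) : (X i : MvPowerSeries (Fin 2) k) ∈
    IsLocalRing.maximalIdeal (MvPowerSeries (Fin 2) k) := by
  rw [IsLocalRing.mem_maximalIdeal, mem_nonunits_iff, MvPowerSeries.isUnit_iff_constantCoeff]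
  simp

lemma hasSubst_shear (c : k) :
    HasSubst (![X 0 + C c * X 1, X 1] : Fin 2 → MvPowerSeries (Fin 2) k) := by
  apply hasSubst_of_constantCoeff_zero
  intro s
  fin_cases s <;> simp

/-- `x ↦ x + c y, y ↦ y` as an algebra map. -/
noncomputable def shearHom (c : k) : MvPowerSeries (Fin 2) k →ₐ[k] MvPowerSeries (Fin 2) k :=
  substAlgHom (hasSubst_shear c)

lemma shearHom_X0 (c : k) : shearHom c (X 0 : MvPowerSeries (Fin 2) k) = X 0 + C c * X 1 := by
  rw [shearHom, substAlgHom_X]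
  rfl

lemma shearHom_X1 (c : k) : shearHom c (X 1 : MvPowerSeries (Fin 2) k) = X 1 := by
  rw [shearHom, substAlgHom_X]
  rfl

lemma algHom_C (φ : MvPowerSeries (Fin 2) k →ₐ[k] MvPowerSeries (Fin 2) k) (c : k) :
    φ (C c) = C c := by
  rw [c_eq_algebraMap]
  exact φ.commutes c

lemma shearHom_comp_X0 (c : k) :
    shearHom (-c) (shearHom c (X 0 : MvPowerSeries (Fin 2) k)) = X 0 := by
  rw [shearHom_X0, map_add, map_mul, shearHom_X1, shearHom_X0, algHom_C, map_neg]
  ring

lemma shearHom_comp (c : k) :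
    (shearHom (-c)).comp (shearHom c) = AlgHom.id k (MvPowerSeries (Fin 2) k) := by
  apply ext_Mv (IsLocalRing.maximalIdeal (MvPowerSeries (Fin 2) k)) sep_P
  · intro i
    fin_cases i
    · simp only [Fin.zero_eta, AlgHom.comp_apply]
      rw [shearHom_comp_X0]
      exact X_mem 0
    · simp only [Fin.mk_one, AlgHom.comp_apply, shearHom_X1]
      exact X_mem 1
  · intro i
    fin_cases i
    · simp only [Fin.zero_eta, AlgHom.comp_apply, AlgHom.id_apply]
      exact shearHom_comp_X0 c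
    · simp [shearHom_X1]

/-- the shear `x ↦ x + c y, y ↦ y` as an automorphism. -/
noncomputable def shear (c : k) : MvPowerSeries (Fin 2) k ≃ₐ[k] MvPowerSeries (Fin 2) k :=
  AlgEquiv.ofAlgHom (shearHom c) (shearHom (-c))
    (by have := shearHom_comp (-c); rwa [neg_neg] at this) (shearHom_comp c)

lemma shear_X0 (c : k) : shear c (X 0 : MvPowerSeries (Fin 2) k) = X 0 + C c * X 1 := shearHom_X0 c

lemma shear_X1 (c : k) : shear c (X 1 : MvPowerSeries (Fin 2) k) = X 1 := shearHom_X1 c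

lemma shear_C (c b : k) : shear c (C b : MvPowerSeries (Fin 2) k) = C b := algHom_C (shearHom c) b

/-- automorphisms preserve the powers of the maximal ideal. -/
lemma equiv_mem_pow (θ : MvPowerSeries (Fin 2) k ≃ₐ[k] MvPowerSeries (Fin 2) k) (j : ℕ)
    (R : MvPowerSeries (Fin 2) k)
    (hR : R ∈ IsLocalRing.maximalIdeal (MvPowerSeries (Fin 2) k) ^ j) :
    θ R ∈ IsLocalRing.maximalIdeal (MvPowerSeries (Fin 2) k) ^ j := by
  have h1 := H5ArSing.NoIso.map_maximalIdeal_of_equiv θ.toRingEquiv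
  have h2 : θ R ∈ (IsLocalRing.maximalIdeal (MvPowerSeries (Fin 2) k) ^ j).map
      (θ.toRingEquiv : MvPowerSeries (Fin 2) k →+* MvPowerSeries (Fin 2) k) :=
    Ideal.mem_map_of_mem _ hR
  rwa [Ideal.map_pow, h1] at h2

/-- the effect of the shear on a node `b x y + (order ≥ 3)`. -/
theorem cf_shear (G : MvPowerSeries (Fin 2) k)
    (h00 : cf G 0 0 = 0) (h10 : cf G 1 0 = 0) (h01 : cf G 0 1 = 0) (h20 : cf G 2 0 = 0)
    (h02 : cf G 0 2 = 0) :
    cf (shear 1 G) 0 0 = 0 ∧ cf (shear 1 G) 0 1 = 0 ∧ cf (shear 1 G) 0 2 = cf G 1 1 := by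
  set b := cf G 1 1 with hb
  have hmon : (C b : MvPowerSeries (Fin 2) k) * X 0 * X 1 =
      monomial (Finsupp.single 0 1 + Finsupp.single 1 1) b := by
    rw [← monomial_zero_eq_C_apply, X_def, X_def, monomial_mul_monomial, monomial_mul_monomial]
    simp
  have hR : G - C b * X 0 * X 1 ∈ IsLocalRing.maximalIdeal (MvPowerSeries (Fin 2) k) ^ 3 := by
    rw [mem_pow_iff]
    intro p q hpq
    have hsub : cf (G - C b * X 0 * X 1) p q = cf G p q - cf (C b * X 0 * X 1) p q :=
      map_sub _ _ _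
    rw [hsub, hmon, cf_monomial]
    have : (p = 0 ∧ q = 0) ∨ (p = 1 ∧ q = 0) ∨ (p = 0 ∧ q = 1) ∨ (p = 2 ∧ q = 0) ∨
        (p = 1 ∧ q = 1) ∨ (p = 0 ∧ q = 2) := by omega
    rcases this with ⟨rfl, rfl⟩ | ⟨rfl, rfl⟩ | ⟨rfl, rfl⟩ | ⟨rfl, rfl⟩ | ⟨rfl, rfl⟩ | ⟨rfl, rfl⟩
    · simp [h00]
    · simp [h10]
    · simp [h01]
    · simp [h20]
    · simp [hb]
    · simp [h02]
  have hR' := equiv_mem_pow (shear 1) 3 _ hR
  rw [mem_pow_iff] at hR'
  have hdec : shear 1 G = shear (1 : k) (G - C b * X 0 * X 1) +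
      (monomial (Finsupp.single 0 1 + Finsupp.single 1 1) b +
        monomial (Finsupp.single 0 0 + Finsupp.single 1 2) b) := by
    have h1 : shear (1 : k) (C b * X 0 * X 1) = monomial (Finsupp.single 0 1 + Finsupp.single 1 1) b +
        monomial (Finsupp.single 0 0 + Finsupp.single 1 2) b := by
      rw [map_mul, map_mul, shear_X0, shear_X1, shear_C, map_one, one_mul, ← hmon]
      have : (monomial (Finsupp.single 0 0 + Finsupp.single 1 2) b : MvPowerSeries (Fin 2) k) =
          C b * X 1 ^ 2 := by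
        rw [← monomial_zero_eq_C_apply, X_pow_eq, monomial_mul_monomial]
        simp
      rw [this]
      ring
    rw [← h1, ← map_add, sub_add_cancel]
  refine ⟨?_, ?_, ?_⟩
  · rw [hdec, cf_add, cf_add, cf_monomial, cf_monomial, hR' 0 0 (by norm_num)]
    simp
  · rw [hdec, cf_add, cf_add, cf_monomial, cf_monomial, hR' 0 1 (by norm_num)]
    simp
  · rw [hdec, cf_add, cf_add, cf_monomial, cf_monomial, hR' 0 2 (by norm_num)]
    simp

end H5ArSing.Coord
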