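import Groth.Agent.Lib.Helper5.ArSing.NodeAut

set_option autoImplicit false
universe u

namespace H5ArSing

open MvPowerSeries

variable {k : Type u} [Field k]

lemma β₁_surjective : Function.Surjective (β₁ k) := fun F =>
  ⟨ArSing.xMap k 1 F, by rw [β₁, branch_xMap]⟩

lemma β₂_surjective : Function.Surjective (β₂ k) := fun F =>
  ⟨ArSing.xMap k 1 F, by rw [β₂, branch_xMap]⟩

section kers

variable (h2 : (2 : k) ≠ 0)

lemma neg_two_mul_C (h2 : (2 : k) ≠ 0) : (-2 : PowerSeries k) * PowerSeries.C (-(2 : k)⁻¹) = 1 := by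
  have e : (-2 : PowerSeries k) = PowerSeries.C (-2 : k) := by rw [map_neg, map_ofNat]
  rw [e, ← map_mul]
  have : (-2 : k) * (-(2 : k)⁻¹) = 1 := by field_simp
  rw [this, map_one]

lemma two_mul_C (h2 : (2 : k) ≠ 0) : (2 : PowerSeries k) * PowerSeries.C ((2 : k)⁻¹) = 1 := by
  have e : (2 : PowerSeries k) = PowerSeries.C (2 : k) := by rw [map_ofNat]
  rw [e, ← map_mul, mul_inv_cancel₀ h2, map_one]

lemma β₁_u : β₁ k (ArSing.x k 1 + ArSing.y k 1) = 2 * PowerSeries.X := by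
  rw [map_add, β₁_x, β₁_y]; ring
lemma β₂_u : β₂ k (ArSing.x k 1 + ArSing.y k 1) = 0 := by
  rw [map_add, β₂_x, β₂_y]; ring
lemma β₁_v : β₁ k (ArSing.y k 1 - ArSing.x k 1) = 0 := by
  rw [map_sub, β₁_x, β₁_y]; ring
lemma β₂_v : β₂ k (ArSing.y k 1 - ArSing.x k 1) = -2 * PowerSeries.X := by
  rw [map_sub, β₂_x, β₂_y]; ring

include h2 in
lemma ker_β₁ (z : ArSing.ring k 1) (hz : β₁ k z = 0) :
    ∃ w, z = (ArSing.y k 1 - ArSing.x k 1) * w := by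
  have hc : PowerSeries.constantCoeff (β₂ k z) = 0 := by rw [← cc_β, hz, map_zero]
  rw [← PowerSeries.X_dvd_iff] at hc
  obtain ⟨G₁, hG₁⟩ := hc
  obtain ⟨w, hw1, hw2⟩ := β_surj h2
    (PowerSeries.C (PowerSeries.constantCoeff (PowerSeries.C (-(2 : k)⁻¹) * G₁)))
    (PowerSeries.C (-(2 : k)⁻¹) * G₁) (by simp)
  refine ⟨w, ?_⟩
  apply β_ext h2
  · rw [map_mul, β₁_v, zero_mul, hz]
  · rw [map_mul, β₂_v, hw2, hG₁]
    linear_combination (-(PowerSeries.X * G₁)) * neg_two_mul_C h2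

include h2 in
lemma ker_β₂ (z : ArSing.ring k 1) (hz : β₂ k z = 0) :
    ∃ w, z = (ArSing.x k 1 + ArSing.y k 1) * w := by
  have hc : PowerSeries.constantCoeff (β₁ k z) = 0 := by rw [cc_β, hz, map_zero]
  rw [← PowerSeries.X_dvd_iff] at hc
  obtain ⟨G₁, hG₁⟩ := hc
  obtain ⟨w, hw1, hw2⟩ := β_surj h2 (PowerSeries.C ((2 : k)⁻¹) * G₁)
    (PowerSeries.C (PowerSeries.constantCoeff (PowerSeries.C ((2 : k)⁻¹) * G₁))) (by simp)
  refine ⟨w, ?_⟩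
  apply β_ext h2
  · rw [map_mul, β₁_u, hw1, hG₁]
    linear_combination (-(PowerSeries.X * G₁)) * two_mul_C h2
  · rw [map_mul, β₂_u, zero_mul, hz]

end kers

/-- values of an automorphism acting diagonally on the branches by signs -/
lemma diag_values (h2 : (2 : k) ≠ 0) (τ : ArSing.ring k 1 → ArSing.ring k 1) (ξ₁ ξ₂ : k)
    (h1 : ∀ z, β₁ k (τ z) = PowerSeries.rescale ξ₁ (β₁ k z))
    (h3 : ∀ z, β₂ k (τ z) = PowerSeries.rescale ξ₂ (β₂ k z)) (a b : ArSing.ring k 1)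
    (ha1 : β₁ k a = PowerSeries.C ξ₁ * PowerSeries.X) (ha2 : β₂ k a = PowerSeries.C ξ₂ * PowerSeries.X)
    (hb1 : β₁ k b = PowerSeries.C ξ₁ * PowerSeries.X)
    (hb2 : β₂ k b = -(PowerSeries.C ξ₂ * PowerSeries.X)) :
    τ (ArSing.x k 1) = a ∧ τ (ArSing.y k 1) = b := by
  constructor
  · apply β_ext h2
    · rw [h1, β₁_x, PowerSeries.rescale_X, ha1]
    · rw [h3, β₂_x, PowerSeries.rescale_X, ha2]
  · apply β_ext h2
    · rw [h1, β₁_y, PowerSeries.rescale_X, hb1]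
    · rw [h3, β₂_y, map_neg, PowerSeries.rescale_X, hb2]



/-- descend a branch map along a surjective branch -/
noncomputable def desc (b : ArSing.ring k 1 →ₐ[k] PowerSeries k) (hb : Function.Surjective b)
    (g : ArSing.ring k 1 →ₐ[k] PowerSeries k) (H : ∀ z, b z = 0 → g z = 0) :
    PowerSeries k →ₐ[k] PowerSeries k :=
  AlgHom.liftOfSurjective b hb g (fun z hz => by
    rw [RingHom.mem_ker] at hz ⊢
    exact H z hz)

lemma desc_apply (b : ArSing.ring k 1 →ₐ[k] PowerSeries k) (hb : Function.Surjective b)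
    (g : ArSing.ring k 1 →ₐ[k] PowerSeries k) (H : ∀ z, b z = 0 → g z = 0) (z : ArSing.ring k 1) :
    desc b hb g H (b z) = g z :=
  AlgHom.liftOfSurjective_apply b hb g _ z

section main

variable (h2 : (2 : k) ≠ 0) (σ : ArSing.ring k 1 ≃ₐ[k] ArSing.ring k 1) (hσ : ∀ a, σ (σ a) = a)

include h2 in
lemma u_mul_v : (ArSing.x k 1 + ArSing.y k 1) * (ArSing.y k 1 - ArSing.x k 1) = 0 := by
  apply β_ext h2
  · rw [map_mul, β₁_v, mul_zero, map_zero]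
  · rw [map_mul, β₂_u, zero_mul, map_zero]

include h2 in
lemma u_ne_zero : (ArSing.x k 1 + ArSing.y k 1) ≠ 0 := by
  intro h
  have h3 := β₁_u (k := k)
  rw [h, map_zero] at h3
  exact (mul_ne_zero (two_ne_zero_P h2) PowerSeries.X_ne_zero) h3.symm

include h2 in
lemma v_ne_zero : (ArSing.y k 1 - ArSing.x k 1) ≠ 0 := by
  intro h
  have h3 := β₂_v (k := k)
  rw [h, map_zero] at h3
  have : (-2 : PowerSeries k) ≠ 0 := neg_ne_zero.mpr (two_ne_zero_P h2)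
  exact (mul_ne_zero this PowerSeries.X_ne_zero) h3.symm

include h2 hσ in
theorem case_swap (hA : β₁ k (σ (ArSing.x k 1 + ArSing.y k 1)) = 0) :
    ∃ φ : ArSing.ring k 1 ≃ₐ[k] ArSing.ring k 1,
      φ.symm (σ (φ (ArSing.x k 1))) = ArSing.x k 1 ∧
      φ.symm (σ (φ (ArSing.y k 1))) = -ArSing.y k 1 := by
  have hA' : β₂ k (σ (ArSing.y k 1 - ArSing.x k 1)) = 0 := by
    have h0 : β₂ k (σ (ArSing.x k 1 + ArSing.y k 1)) * β₂ k (σ (ArSing.y k 1 - ArSing.x k 1)) = 0 := by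
      rw [← map_mul, ← map_mul, u_mul_v h2, map_zero, map_zero]
    rcases mul_eq_zero.mp h0 with h | h
    · exfalso
      have h1 : σ (ArSing.x k 1 + ArSing.y k 1) = 0 :=
        β_ext h2 (by rw [hA, map_zero]) (by rw [h, map_zero])
      have h3 : ArSing.x k 1 + ArSing.y k 1 = 0 := by
        rw [← hσ (ArSing.x k 1 + ArSing.y k 1), h1, map_zero]
      exact u_ne_zero h2 h3
    · exact h
  have H1 : ∀ z, β₂ k z = 0 → ((β₁ k).comp σ.toAlgHom) z = 0 := by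
    intro z hz
    obtain ⟨w, rfl⟩ := ker_β₂ h2 z hz
    change β₁ k (σ _) = 0
    rw [map_mul, map_mul, hA, zero_mul]
  have H2 : ∀ z, β₁ k z = 0 → ((β₂ k).comp σ.toAlgHom) z = 0 := by
    intro z hz
    obtain ⟨w, rfl⟩ := ker_β₁ h2 z hz
    change β₂ k (σ _) = 0
    rw [map_mul, map_mul, hA', zero_mul]
  set τ := desc (β₂ k) β₂_surjective ((β₁ k).comp σ.toAlgHom) H1 with hτdef
  set τ' := desc (β₁ k) β₁_surjective ((β₂ k).comp σ.toAlgHom) H2 with hτ'def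
  have hτ : ∀ z, τ (β₂ k z) = β₁ k (σ z) := fun z => desc_apply _ _ _ H1 z
  have hτ' : ∀ z, τ' (β₁ k z) = β₂ k (σ z) := fun z => desc_apply _ _ _ H2 z
  have hττ' : ∀ f, τ (τ' f) = f := by
    intro f
    obtain ⟨z, rfl⟩ := β₁_surjective f
    rw [hτ', hτ, hσ]
  have hτ'τ : ∀ f, τ' (τ f) = f := by
    intro f
    obtain ⟨z, rfl⟩ := β₂_surjective f
    rw [hτ, hτ', hσ]
  let ψ := equivOfPair h2 (β₁ k) (τ'.comp (β₂ k)) (β₁ k) (τ.comp (β₂ k))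
    (fun z => β₁_homOfPair h2 _ _ z)
    (fun z => by rw [AlgHom.comp_apply, β₂_homOfPair, AlgHom.comp_apply, hτ'τ])
    (fun z => β₁_homOfPair h2 _ _ z)
    (fun z => by rw [AlgHom.comp_apply, β₂_homOfPair, AlgHom.comp_apply, hττ'])
  have hψ1 : ∀ z, β₁ k (ψ z) = β₁ k z := fun z => β₁_homOfPair h2 _ _ z
  have hψ2 : ∀ z, β₂ k (ψ z) = τ' (β₂ k z) := fun z => β₂_homOfPair h2 _ _ z
  have hψs1 : ∀ z, β₁ k (ψ.symm z) = β₁ k z := fun z => β₁_homOfPair h2 _ _ z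
  have hψs2 : ∀ z, β₂ k (ψ.symm z) = τ (β₂ k z) := fun z => β₂_homOfPair h2 _ _ z
  have hθ1 : ∀ z, β₁ k (ψ.symm (σ (ψ z))) = β₂ k z := by
    intro z
    rw [hψs1, ← hτ, hψ2, hττ']
  have hθ2 : ∀ z, β₂ k (ψ.symm (σ (ψ z))) = β₁ k z := by
    intro z
    rw [hψs2, ← hτ', hψ1, hττ']
  refine ⟨ψ, ?_, ?_⟩
  · apply β_ext h2
    · rw [hθ1, β₂_x, β₁_x]
    · rw [hθ2, β₁_x, β₂_x]
  · apply β_ext h2
    · rw [hθ1, β₂_y, map_neg, β₁_y]
    · rw [hθ2, β₁_y, map_neg, β₂_y, neg_neg]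



lemma sq_eq_one_cases {ξ : k} (h : ξ ^ 2 = 1) : ξ = 1 ∨ ξ = -1 := by
  have : (ξ - 1) * (ξ + 1) = 0 := by linear_combination h
  rcases mul_eq_zero.mp this with h | h
  · left; exact sub_eq_zero.mp h
  · right; exact eq_neg_of_add_eq_zero_left h

include h2 hσ in
theorem case_diag (hne : σ ≠ AlgEquiv.refl)
    (hB : β₁ k (σ (ArSing.y k 1 - ArSing.x k 1)) = 0) :
    ∃ φ : ArSing.ring k 1 ≃ₐ[k] ArSing.ring k 1,
      (φ.symm (σ (φ (ArSing.x k 1))) = -ArSing.x k 1 ∧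
        φ.symm (σ (φ (ArSing.y k 1))) = -ArSing.y k 1) ∨
      (φ.symm (σ (φ (ArSing.x k 1))) = ArSing.y k 1 ∧
        φ.symm (σ (φ (ArSing.y k 1))) = ArSing.x k 1) := by
  have hB' : β₂ k (σ (ArSing.x k 1 + ArSing.y k 1)) = 0 := by
    have h0 : β₂ k (σ (ArSing.x k 1 + ArSing.y k 1)) * β₂ k (σ (ArSing.y k 1 - ArSing.x k 1)) = 0 := by
      rw [← map_mul, ← map_mul, u_mul_v h2, map_zero, map_zero]
    rcases mul_eq_zero.mp h0 with h | h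
    · exact h
    · exfalso
      have h1 : σ (ArSing.y k 1 - ArSing.x k 1) = 0 :=
        β_ext h2 (by rw [hB, map_zero]) (by rw [h, map_zero])
      have h3 : ArSing.y k 1 - ArSing.x k 1 = 0 := by
        rw [← hσ (ArSing.y k 1 - ArSing.x k 1), h1, map_zero]
      exact v_ne_zero h2 h3
  have H1 : ∀ z, β₁ k z = 0 → ((β₁ k).comp σ.toAlgHom) z = 0 := by
    intro z hz
    obtain ⟨w, rfl⟩ := ker_β₁ h2 z hz
    change β₁ k (σ _) = 0
    rw [map_mul, map_mul, hB, zero_mul]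
  have H2 : ∀ z, β₂ k z = 0 → ((β₂ k).comp σ.toAlgHom) z = 0 := by
    intro z hz
    obtain ⟨w, rfl⟩ := ker_β₂ h2 z hz
    change β₂ k (σ _) = 0
    rw [map_mul, map_mul, hB', zero_mul]
  set s₁ := desc (β₁ k) β₁_surjective ((β₁ k).comp σ.toAlgHom) H1 with hs₁def
  set s₂ := desc (β₂ k) β₂_surjective ((β₂ k).comp σ.toAlgHom) H2 with hs₂def
  have hs₁ : ∀ z, s₁ (β₁ k z) = β₁ k (σ z) := fun z => desc_apply _ _ _ H1 z
  have hs₂ : ∀ z, s₂ (β₂ k z) = β₂ k (σ z) := fun z => desc_apply _ _ _ H2 z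
  have hs₁s₁ : ∀ f, s₁ (s₁ f) = f := by
    intro f
    obtain ⟨z, rfl⟩ := β₁_surjective f
    rw [hs₁, hs₁, hσ]
  have hs₂s₂ : ∀ f, s₂ (s₂ f) = f := by
    intro f
    obtain ⟨z, rfl⟩ := β₂_surjective f
    rw [hs₂, hs₂, hσ]
  let e₁ : PowerSeries k ≃ₐ[k] PowerSeries k := AlgEquiv.ofAlgHom s₁ s₁
    (AlgHom.ext hs₁s₁) (AlgHom.ext hs₁s₁)
  let e₂ : PowerSeries k ≃ₐ[k] PowerSeries k := AlgEquiv.ofAlgHom s₂ s₂
    (AlgHom.ext hs₂s₂) (AlgHom.ext hs₂s₂)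
  obtain ⟨hξ₁, φ₁, -, hφ₁⟩ := H5PSInv.main h2 e₁ hs₁s₁
  obtain ⟨hξ₂, φ₂, -, hφ₂⟩ := H5PSInv.main h2 e₂ hs₂s₂
  set ξ₁ := PowerSeries.coeff 1 (e₁ PowerSeries.X) with hξ₁def
  set ξ₂ := PowerSeries.coeff 1 (e₂ PowerSeries.X) with hξ₂def
  let ψ := equivOfPair h2 (φ₁.toAlgHom.comp (β₁ k)) (φ₂.toAlgHom.comp (β₂ k))
    (φ₁.symm.toAlgHom.comp (β₁ k)) (φ₂.symm.toAlgHom.comp (β₂ k))
    (fun z => by
      rw [AlgHom.comp_apply, β₁_homOfPair, AlgHom.comp_apply]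
      exact φ₁.apply_symm_apply _)
    (fun z => by
      rw [AlgHom.comp_apply, β₂_homOfPair, AlgHom.comp_apply]
      exact φ₂.apply_symm_apply _)
    (fun z => by
      rw [AlgHom.comp_apply, β₁_homOfPair, AlgHom.comp_apply]
      exact φ₁.symm_apply_apply _)
    (fun z => by
      rw [AlgHom.comp_apply, β₂_homOfPair, AlgHom.comp_apply]
      exact φ₂.symm_apply_apply _)
  have hψ1 : ∀ z, β₁ k (ψ z) = φ₁ (β₁ k z) := fun z => β₁_homOfPair h2 _ _ z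
  have hψ2 : ∀ z, β₂ k (ψ z) = φ₂ (β₂ k z) := fun z => β₂_homOfPair h2 _ _ z
  have hψs1 : ∀ z, β₁ k (ψ.symm z) = φ₁.symm (β₁ k z) := fun z => β₁_homOfPair h2 _ _ z
  have hψs2 : ∀ z, β₂ k (ψ.symm z) = φ₂.symm (β₂ k z) := fun z => β₂_homOfPair h2 _ _ z
  have hθ1 : ∀ z, β₁ k (ψ.symm (σ (ψ z))) = PowerSeries.rescale ξ₁ (β₁ k z) := by
    intro z
    rw [hψs1, ← hs₁, hψ1]
    exact hφ₁ _
  have hθ2 : ∀ z, β₂ k (ψ.symm (σ (ψ z))) = PowerSeries.rescale ξ₂ (β₂ k z) := by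
    intro z
    rw [hψs2, ← hs₂, hψ2]
    exact hφ₂ _
  rcases sq_eq_one_cases hξ₁ with h1 | h1 <;> rcases sq_eq_one_cases hξ₂ with h3 | h3
  · -- (1,1): σ trivial
    exfalso
    apply hne
    ext w
    obtain ⟨z, rfl⟩ := ψ.surjective w
    have : ψ.symm (σ (ψ z)) = z := by
      apply β_ext h2
      · rw [hθ1, h1, PowerSeries.rescale_one]; rfl
      · rw [hθ2, h3, PowerSeries.rescale_one]; rfl
    have h4 := congrArg ψ this
    rw [AlgEquiv.apply_symm_apply] at h4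
    rw [h4]; rfl
  · -- (1,-1): swap
    refine ⟨ψ, Or.inr ?_⟩
    apply diag_values h2 (fun z => ψ.symm (σ (ψ z))) ξ₁ ξ₂ hθ1 hθ2
    · rw [β₁_y, h1, map_one, one_mul]
    · rw [β₂_y, h3, map_neg, map_one, neg_mul, one_mul]
    · rw [β₁_x, h1, map_one, one_mul]
    · rw [β₂_x, h3, map_neg, map_one, neg_mul, one_mul, neg_neg]
  · -- (-1,1): conjugate by the branch swap
    let χ := equivOfPair h2 (β₂ k) (β₁ k) (β₂ k) (β₁ k)
      (fun z => β₂_homOfPair h2 _ _ z) (fun z => β₁_homOfPair h2 _ _ z)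
      (fun z => β₂_homOfPair h2 _ _ z) (fun z => β₁_homOfPair h2 _ _ z)
    have hχ1 : ∀ z, β₁ k (χ z) = β₂ k z := fun z => β₁_homOfPair h2 _ _ z
    have hχ2 : ∀ z, β₂ k (χ z) = β₁ k z := fun z => β₂_homOfPair h2 _ _ z
    have hχs1 : ∀ z, β₁ k (χ.symm z) = β₂ k z := fun z => β₁_homOfPair h2 _ _ z
    have hχs2 : ∀ z, β₂ k (χ.symm z) = β₁ k z := fun z => β₂_homOfPair h2 _ _ z
    refine ⟨χ.trans ψ, Or.inr ?_⟩
    have e1 : ∀ z, β₁ k ((χ.trans ψ).symm (σ ((χ.trans ψ) z))) =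
        PowerSeries.rescale ξ₂ (β₁ k z) := by
      intro z
      change β₁ k (χ.symm (ψ.symm (σ (ψ (χ z))))) = _
      rw [hχs1, hθ2, hχ2]
    have e2 : ∀ z, β₂ k ((χ.trans ψ).symm (σ ((χ.trans ψ) z))) =
        PowerSeries.rescale ξ₁ (β₂ k z) := by
      intro z
      change β₂ k (χ.symm (ψ.symm (σ (ψ (χ z))))) = _
      rw [hχs2, hθ1, hχ1]
    apply diag_values h2 (fun z => (χ.trans ψ).symm (σ ((χ.trans ψ) z))) ξ₂ ξ₁ e1 e2
    · rw [β₁_y, h3, map_one, one_mul]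
    · rw [β₂_y, h1, map_neg, map_one, neg_mul, one_mul]
    · rw [β₁_x, h3, map_one, one_mul]
    · rw [β₂_x, h1, map_neg, map_one, neg_mul, one_mul, neg_neg]
  · -- (-1,-1)
    refine ⟨ψ, Or.inl ?_⟩
    apply diag_values h2 (fun z => ψ.symm (σ (ψ z))) ξ₁ ξ₂ hθ1 hθ2
    · rw [map_neg, β₁_x, h1, map_neg, map_one, neg_mul, one_mul]
    · rw [map_neg, β₂_x, h3, map_neg, map_one, neg_mul, one_mul]
    · rw [map_neg, β₁_y, h1, map_neg, map_one, neg_mul, one_mul]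
    · rw [map_neg, β₂_y, h3, map_neg, map_one, neg_mul, one_mul]

include h2 hσ in
theorem main14083 (hne : σ ≠ AlgEquiv.refl) :
    ∃ φ : ArSing.ring k 1 ≃ₐ[k] ArSing.ring k 1,
      (φ.symm (σ (φ (ArSing.x k 1))) = ArSing.x k 1 ∧ φ.symm (σ (φ (ArSing.y k 1))) = -ArSing.y k 1) ∨
      (φ.symm (σ (φ (ArSing.x k 1))) = -ArSing.x k 1 ∧ φ.symm (σ (φ (ArSing.y k 1))) = -ArSing.y k 1) ∨
      (φ.symm (σ (φ (ArSing.x k 1))) = ArSing.y k 1 ∧ φ.symm (σ (φ (ArSing.y k 1))) = ArSing.x k 1) := by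
  have h0 : β₁ k (σ (ArSing.x k 1 + ArSing.y k 1)) * β₁ k (σ (ArSing.y k 1 - ArSing.x k 1)) = 0 := by
    rw [← map_mul, ← map_mul, u_mul_v h2, map_zero, map_zero]
  rcases mul_eq_zero.mp h0 with h | h
  · obtain ⟨φ, hφ⟩ := case_swap h2 σ hσ h
    exact ⟨φ, Or.inl hφ⟩
  · obtain ⟨φ, hφ⟩ := case_diag h2 σ hσ hne h
    exact ⟨φ, Or.inr hφ⟩

end main

end H5ArSing
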