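import Groth.Agent.Lib.Helper5.ArSing.Struct

set_option autoImplicit false
universe u

namespace H5ArSing

open MvPowerSeries

variable (k : Type u) [Field k] (r : ℕ)

/-- every element is a constant plus an element of `(x,y)` -/
lemma exists_const_add (z : ArSing.ring k r) :
    ∃ c : k, z - algebraMap k _ c ∈ 𝔫 k r := by
  obtain ⟨f, rfl⟩ := Ideal.Quotient.mk_surjective z
  refine ⟨constantCoeff f, ?_⟩
  have h1 : f - C (constantCoeff f) ∈ Ideal.span (Set.range (X : Fin 2 → MvPowerSeries (Fin 2) k)) := by
    rw [← Groth.Agent.H5.CA.ker_constantCoeff_eq_span, RingHom.mem_ker]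
    simp
  have h2 : (Ideal.span (Set.range (X : Fin 2 → MvPowerSeries (Fin 2) k))).map
      (Ideal.Quotient.mk (Ideal.span {ArSing.eqn k r})) ≤ 𝔫 k r := by
    rw [Ideal.map_span, Ideal.span_le]
    rintro _ ⟨_, ⟨i, rfl⟩, rfl⟩
    fin_cases i
    · exact x_mem k r
    · exact y_mem k r
  have h3 := h2 (Ideal.mem_map_of_mem _ h1)
  rw [map_sub] at h3
  exact h3

lemma 𝔫_eq_maximalIdeal : 𝔫 k r = IsLocalRing.maximalIdeal (ArSing.ring k r) := by
  apply le_antisymm (IsLocalRing.le_maximalIdeal (𝔫_ne_top k r))
  intro z hz
  obtain ⟨c, hc⟩ := exists_const_add k r z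
  by_cases h0 : c = 0
  · simpa [h0] using hc
  · exfalso
    have hu : IsUnit (algebraMap k (ArSing.ring k r) c) := (IsUnit.mk0 c h0).map _
    have h1 : algebraMap k (ArSing.ring k r) c ∈ IsLocalRing.maximalIdeal (ArSing.ring k r) := by
      have := sub_mem hz (IsLocalRing.le_maximalIdeal (𝔫_ne_top k r) hc)
      simpa using this
    exact (IsLocalRing.mem_maximalIdeal _).mp h1 hu

/-- **length principle**: lengths over `A_r` are lengths over `k` -/
theorem length_eq (M : Type*) [AddCommGroup M] [Module (ArSing.ring k r) M] [Module k M]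
    [IsScalarTower k (ArSing.ring k r) M] :
    Module.length (ArSing.ring k r) M = Module.length k M := by
  haveI : IsLocalHom (algebraMap k (ArSing.ring k r)) := inferInstance
  have h := IsLocalRing.length_restrictScalars k (ArSing.ring k r) M
  have h1 : Module.length (IsLocalRing.ResidueField k)
      (IsLocalRing.ResidueField (ArSing.ring k r)) = 1 := by
    rw [← Module.length_eq_of_surjective (S := k) (IsLocalRing.residue_surjective (R := k))]
    have hbij : Function.Bijective
        (Algebra.linearMap k (IsLocalRing.ResidueField (ArSing.ring k r))) := by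
      constructor
      · exact (algebraMap k (IsLocalRing.ResidueField (ArSing.ring k r))).injective
      · intro w
        obtain ⟨z, rfl⟩ := IsLocalRing.residue_surjective w
        obtain ⟨c, hc⟩ := exists_const_add k r z
        refine ⟨c, ?_⟩
        rw [𝔫_eq_maximalIdeal, ← IsLocalRing.residue_eq_zero_iff, map_sub, sub_eq_zero] at hc
        rw [hc]
        rfl
    rw [← (LinearEquiv.ofBijective _ hbij).length_eq]
    exact Module.length_eq_one k k
  rw [h, h1, mul_one]

end H5ArSing
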