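import Mathlib
import Groth.Prelude.Def_W4c1arstab1appArSing
import Groth.Agent.Lib.Helper5.FSm.PSComplete

set_option autoImplicit false
universe u

namespace H5ArSing

open MvPowerSeries

variable (k : Type u) [Field k] (r : ℕ)

/-- coefficient ring -/
abbrev P₁ := MvPowerSeries (Fin 1) k

/-- the equivalence `k[[x,y]] ≃ k[[x]][[Y]]` -/
noncomputable def E : MvPowerSeries (Fin 2) k ≃ₐ[k] PowerSeries (P₁ k) :=
  (renameEquiv k (Equiv.swap (0 : Fin 2) 1)).trans (finSuccEquiv k 1)

lemma E_apply (p : MvPowerSeries (Fin 2) k) :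
    E k p = finSuccEquiv k 1 (rename (Equiv.swap (0 : Fin 2) 1) p) := rfl

lemma E_X0 : E k (X 0) = PowerSeries.C (X 0 : P₁ k) := by
  rw [E_apply, rename_X, Equiv.swap_apply_left]
  exact finSuccEquiv_X_succ (R := k) (n := 1) 0

lemma E_X1 : E k (X 1) = (PowerSeries.X : PowerSeries (P₁ k)) := by
  rw [E_apply, rename_X, Equiv.swap_apply_right]
  exact finSuccEquiv_X_zero (R := k) (n := 1)

/-- the distinguished polynomial -/
noncomputable def g : Polynomial (P₁ k) :=
  Polynomial.X ^ 2 - Polynomial.C ((X 0 : P₁ k) ^ (r + 1))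

lemma E_eqn : E k (ArSing.eqn k r) = ((g k r : Polynomial (P₁ k)) : PowerSeries (P₁ k)) := by
  simp only [ArSing.eqn, map_sub, map_pow, E_X0, E_X1, g, Polynomial.coe_sub, Polynomial.coe_pow,
    Polynomial.coe_X, Polynomial.coe_C]

lemma g_monic : (g k r).Monic := Polynomial.monic_X_pow_sub_C _ two_ne_zero

lemma g_natDegree : (g k r).natDegree = 2 := Polynomial.natDegree_X_pow_sub_C

lemma X0_mem : (X 0 : P₁ k) ∈ IsLocalRing.maximalIdeal (P₁ k) := by
  rw [IsLocalRing.mem_maximalIdeal, mem_nonunits_iff, MvPowerSeries.isUnit_iff_constantCoeff]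
  simp

lemma g_dist : (g k r).IsDistinguishedAt (IsLocalRing.maximalIdeal (P₁ k)) := by
  refine ⟨⟨?_⟩, g_monic k r⟩
  intro n hn
  rw [g_natDegree] at hn
  have : n = 0 ∨ n = 1 := by omega
  rcases this with rfl | rfl
  · simp only [g, Polynomial.coeff_sub, Polynomial.coeff_X_pow, Polynomial.coeff_C_zero]
    simp only [OfNat.zero_ne_ofNat, if_false, zero_sub, neg_mem_iff]
    exact Ideal.pow_mem_of_mem _ (X0_mem k) _ (Nat.succ_pos r)
  · simp only [g, Polynomial.coeff_sub, Polynomial.coeff_X_pow, Polynomial.coeff_C]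
    simp



section iso

instance : IsAdicComplete (IsLocalRing.maximalIdeal (P₁ k)) (P₁ k) := by
  haveI : IsAdicComplete (IsLocalRing.maximalIdeal k) k := by
    rw [IsLocalRing.maximalIdeal_eq_bot]
    infer_instance
  exact Groth.Agent.H5.FSm.isAdicComplete_maximalIdeal_mvPowerSeries k 1

/-- `A_r ≃ k[[x]][[Y]]/(g)` -/
noncomputable def q₁ : ArSing.ring k r ≃ₐ[k]
    (PowerSeries (P₁ k) ⧸ Ideal.span {((g k r : Polynomial (P₁ k)) : PowerSeries (P₁ k))}) :=
  Ideal.quotientEquivAlg _ _ (E k) (by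
    rw [Ideal.map_span, Set.image_singleton]
    congr 2
    exact (E_eqn k r).symm)

/-- `k[[x]][Y]/(g) ≃ k[[x]][[Y]]/(g)` -/
noncomputable def q₂ : (Polynomial (P₁ k) ⧸ Ideal.span {g k r}) ≃ₐ[P₁ k]
    (PowerSeries (P₁ k) ⧸ Ideal.span {((g k r : Polynomial (P₁ k)) : PowerSeries (P₁ k))}) :=
  (g_dist k r).algEquivQuotient

lemma q₂_mk (p : Polynomial (P₁ k)) :
    q₂ k r (Ideal.Quotient.mk _ p) = Ideal.Quotient.mk _ (p : PowerSeries (P₁ k)) := rfl

lemma q₁_symm_mk (f : PowerSeries (P₁ k)) :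
    (q₁ k r).symm (Ideal.Quotient.mk _ f) = Ideal.Quotient.mk _ ((E k).symm f) := rfl

/-- normal form in `k[[x]][Y]/(g)` -/
lemma exists_normal (w : Polynomial (P₁ k) ⧸ Ideal.span {g k r}) :
    ∃ a b : P₁ k, w = Ideal.Quotient.mk _ (Polynomial.C a + Polynomial.C b * Polynomial.X) := by
  obtain ⟨p, rfl⟩ := Ideal.Quotient.mk_surjective w
  have hdeg : (p %ₘ g k r).degree < 2 := by
    have := Polynomial.degree_modByMonic_lt p (g_monic k r)
    rwa [Polynomial.degree_eq_natDegree (g_monic k r).ne_zero, g_natDegree] at this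
  refine ⟨(p %ₘ g k r).coeff 0, (p %ₘ g k r).coeff 1, ?_⟩
  have h1 : p %ₘ g k r = Polynomial.C ((p %ₘ g k r).coeff 0) +
      Polynomial.C ((p %ₘ g k r).coeff 1) * Polynomial.X := by
    ext n
    rcases n with _ | _ | n
    · simp
    · simp
    · have : (p %ₘ g k r).coeff (n + 2) = 0 := by
        apply Polynomial.coeff_eq_zero_of_degree_lt
        refine lt_of_lt_of_le hdeg ?_
        exact_mod_cast (by omega : 2 ≤ n + 2)
      simp [this, Polynomial.coeff_C, Polynomial.coeff_X]
  rw [← h1, Ideal.Quotient.eq, Ideal.mem_span_singleton]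
  exact ⟨p /ₘ g k r, by rw [Polynomial.modByMonic_eq_sub_mul_div]; ring⟩

lemma normal_unique (a b : P₁ k)
    (h : Ideal.Quotient.mk (Ideal.span {g k r}) (Polynomial.C a + Polynomial.C b * Polynomial.X) = 0) :
    a = 0 ∧ b = 0 := by
  rw [Ideal.Quotient.eq_zero_iff_mem, Ideal.mem_span_singleton] at h
  have hdeg : (Polynomial.C a + Polynomial.C b * Polynomial.X).degree < (g k r).degree := by
    rw [Polynomial.degree_eq_natDegree (g_monic k r).ne_zero, g_natDegree]
    refine lt_of_le_of_lt (Polynomial.degree_add_le _ _) (max_lt ?_ ?_)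
    · exact lt_of_le_of_lt Polynomial.degree_C_le (by norm_num)
    · refine lt_of_le_of_lt (Polynomial.degree_C_mul_X_le b) (by norm_num)
  have h0 := Polynomial.eq_zero_of_dvd_of_degree_lt h hdeg
  constructor
  · have := congrArg (fun p => Polynomial.coeff p 0) h0
    simpa using this
  · have := congrArg (fun p => Polynomial.coeff p 1) h0
    simpa using this

end iso



section struct1

/-- the coefficient embedding `k[[x]] → A_r` (Fin 1 version) -/
noncomputable def ι : P₁ k →ₐ[k] ArSing.ring k r :=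
  (Ideal.Quotient.mkₐ k (Ideal.span {ArSing.eqn k r})).comp
    ((E k).symm.toAlgHom.comp (IsScalarTower.toAlgHom k (P₁ k) (PowerSeries (P₁ k))))

lemma ι_apply (a : P₁ k) :
    ι k r a = Ideal.Quotient.mk _ ((E k).symm (PowerSeries.C a)) := rfl

lemma ι_X0 : ι k r (X 0) = ArSing.x k r := by
  rw [ι_apply, ← E_X0, AlgEquiv.symm_apply_apply]

lemma E_symm_X : (E k).symm (PowerSeries.X : PowerSeries (P₁ k)) = X 1 := by
  rw [← E_X1, AlgEquiv.symm_apply_apply]

/-- structure theorem, `Fin 1` version -/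
theorem struct₁ (z : ArSing.ring k r) :
    ∃ a b : P₁ k, z = ι k r a + ι k r b * ArSing.y k r := by
  obtain ⟨a, b, hab⟩ := exists_normal k r ((q₂ k r).symm (q₁ k r z))
  refine ⟨a, b, ?_⟩
  have h1 : q₁ k r z = q₂ k r (Ideal.Quotient.mk _ (Polynomial.C a + Polynomial.C b * Polynomial.X)) := by
    rw [← hab, AlgEquiv.apply_symm_apply]
  have h2 : z = (q₁ k r).symm (q₂ k r (Ideal.Quotient.mk _
      (Polynomial.C a + Polynomial.C b * Polynomial.X))) := by
    rw [← h1, AlgEquiv.symm_apply_apply]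
  rw [h2, q₂_mk, q₁_symm_mk]
  simp only [Polynomial.coe_add, Polynomial.coe_mul, Polynomial.coe_C, Polynomial.coe_X, map_add,
    map_mul, E_symm_X]
  rfl

theorem struct₁_unique (a b : P₁ k) (h : ι k r a + ι k r b * ArSing.y k r = 0) :
    a = 0 ∧ b = 0 := by
  apply normal_unique k r
  apply (q₂ k r).injective
  apply (q₁ k r).symm.injective
  rw [map_zero, map_zero, q₂_mk, q₁_symm_mk]
  simp only [Polynomial.coe_add, Polynomial.coe_mul, Polynomial.coe_C, Polynomial.coe_X, map_add,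
    map_mul, E_symm_X]
  exact h

end struct1

end H5ArSing
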