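import Mathlib
import Groth.Agent.Lib.Helper5.ArSing.Weier

/-!
# Weierstrass preparation for `k[[x,y]]/(G)` (helper5, for S14311)
-/

set_option autoImplicit false
universe u

namespace H5ArSing

open MvPowerSeries

variable (k : Type u) [Field k]

/-- the pure-`y` coefficients of `G`, read off `E G`. -/
lemma constantCoeff_coeff_E (G : MvPowerSeries (Fin 2) k) (j : ℕ) :
    constantCoeff (PowerSeries.coeff j (E k G)) = coeff (Finsupp.single 1 j) G := by
  rw [← coeff_zero_eq_constantCoeff_apply, E_apply, coeff_coeff_finSuccEquiv]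
  have h : ((0 : Fin 1 →₀ ℕ).cons j : Fin 2 →₀ ℕ) =
      Finsupp.embDomain (Equiv.swap (0 : Fin 2) 1).toEmbedding (Finsupp.single 1 j) := by
    rw [Finsupp.embDomain_single]
    ext i
    fin_cases i
    · simp [Finsupp.cons_zero]
    · simp only [Fin.mk_one, Fin.isValue, Equiv.toEmbedding_apply, Equiv.swap_apply_right]
      have : ((0 : Fin 1 →₀ ℕ).cons j : Fin 2 →₀ ℕ) (Fin.succ 0) = (0 : Fin 1 →₀ ℕ) 0 :=
        Finsupp.cons_succ 0 j 0
      simpa using this
  rw [h]
  exact coeff_embDomain_rename (Equiv.swap (0 : Fin 2) 1).toEmbedding G (Finsupp.single 1 j)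

lemma residue_eq_zero_iff (p : P₁ k) :
    IsLocalRing.residue (P₁ k) p = 0 ↔ constantCoeff p = 0 := by
  rw [IsLocalRing.residue_eq_zero_iff, IsLocalRing.mem_maximalIdeal, mem_nonunits_iff,
    MvPowerSeries.isUnit_iff_constantCoeff, isUnit_iff_ne_zero, not_not]

lemma mem_maximalIdeal_iff (p : P₁ k) :
    p ∈ IsLocalRing.maximalIdeal (P₁ k) ↔ constantCoeff p = 0 := by
  rw [IsLocalRing.mem_maximalIdeal, mem_nonunits_iff,
    MvPowerSeries.isUnit_iff_constantCoeff, isUnit_iff_ne_zero, not_not]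

/-- **Weierstrass preparation**: if `G(0,y)` has order `d`, then `k[[x,y]]/(G)` is the quotient of
`k[[x]][Y]` by a distinguished polynomial of degree `d`. -/
theorem exists_distinguished (G : MvPowerSeries (Fin 2) k) (d : ℕ)
    (hd : coeff (Finsupp.single 1 d) G ≠ 0) (hlt : ∀ i < d, coeff (Finsupp.single 1 i) G = 0) :
    ∃ f : Polynomial (P₁ k), f.Monic ∧ f.natDegree = d ∧
      (∀ i < d, f.coeff i ∈ IsLocalRing.maximalIdeal (P₁ k)) ∧
      Nonempty ((MvPowerSeries (Fin 2) k ⧸ Ideal.span {G}) ≃ₐ[k]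
        (Polynomial (P₁ k) ⧸ Ideal.span {f})) := by
  have hcoeff : ∀ j, PowerSeries.coeff j ((E k G).map (IsLocalRing.residue (P₁ k))) = 0 ↔
      coeff (Finsupp.single 1 j) G = 0 := by
    intro j
    rw [PowerSeries.coeff_map, residue_eq_zero_iff, constantCoeff_coeff_E]
  have hord : ((E k G).map (IsLocalRing.residue (P₁ k))).order = d := by
    rw [PowerSeries.order_eq_nat]
    exact ⟨fun h => hd ((hcoeff d).1 h), fun i hi => (hcoeff i).2 (hlt i hi)⟩
  have hg : (E k G).map (IsLocalRing.residue (P₁ k)) ≠ 0 := by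
    intro h
    apply hd
    rw [← hcoeff, h, map_zero]
  have H := (E k G).isWeierstrassFactorization_weierstrassDistinguished_weierstrassUnit hg
  refine ⟨(E k G).weierstrassDistinguished hg, H.isDistinguishedAt.monic, ?_, ?_, ?_⟩
  · rw [H.natDegree_eq_toNat_order_map, hord]
    rfl
  · intro i hi
    have hnd : ((E k G).weierstrassDistinguished hg).natDegree = d := by
      rw [H.natDegree_eq_toNat_order_map, hord]
      rfl
    exact H.isDistinguishedAt.mem (by rw [hnd]; exact hi)
  · let e1 : (MvPowerSeries (Fin 2) k ⧸ Ideal.span {G}) ≃ₐ[k]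
        (PowerSeries (P₁ k) ⧸ Ideal.span {E k G}) :=
      Ideal.quotientEquivAlg _ _ (E k) (by
        rw [Ideal.map_span, Set.image_singleton]
        rfl)
    exact ⟨e1.trans (H.algEquivQuotient.restrictScalars k).symm⟩

/-- back from a distinguished polynomial to a quotient of `k[[x,y]]`. -/
theorem nonempty_equiv_of_distinguished (f : Polynomial (P₁ k))
    (hf : f.IsDistinguishedAt (IsLocalRing.maximalIdeal (P₁ k))) :
    Nonempty ((Polynomial (P₁ k) ⧸ Ideal.span {f}) ≃ₐ[k]
      (MvPowerSeries (Fin 2) k ⧸ Ideal.span {(E k).symm (f : PowerSeries (P₁ k))})) := by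
  let e1 : (PowerSeries (P₁ k) ⧸ Ideal.span {(f : PowerSeries (P₁ k))}) ≃ₐ[k]
      (MvPowerSeries (Fin 2) k ⧸ Ideal.span {(E k).symm (f : PowerSeries (P₁ k))}) :=
    Ideal.quotientEquivAlg _ _ (E k).symm (by
      rw [Ideal.map_span, Set.image_singleton]
      rfl)
  exact ⟨(hf.algEquivQuotient.restrictScalars k).trans e1⟩

end H5ArSing
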