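import Groth.Agent.Lib.Helper5.ArSing.Weier
import Groth.Agent.Lib.Helper5.ArSing.Ext

set_option autoImplicit false
universe u

namespace H5ArSing

open MvPowerSeries

variable (k : Type u) [Field k] (r : ℕ)

/-- `k⟦X⟧ ≃ k[[x₀]]` -/
noncomputable def ρ : PowerSeries k ≃ₐ[k] P₁ k :=
  renameEquiv k (Equiv.ofUnique Unit (Fin 1))

lemma ρ_X : ρ k (PowerSeries.X) = (X 0 : P₁ k) := by
  change rename _ (MvPowerSeries.X ()) = _
  rw [rename_X]
  rfl

lemma xMap_X : ArSing.xMap k r PowerSeries.X = ArSing.x k r := by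
  simp only [ArSing.xMap, AlgHom.comp_apply]
  rw [PowerSeries.substAlgHom_X]
  rfl

theorem xMap_eq : ArSing.xMap k r = (ι k r).comp (ρ k).toAlgHom := by
  apply ext_P (𝔫 k r) (sep k r)
  · rw [xMap_X]; exact x_mem k r
  · rw [xMap_X]
    change _ = ι k r (ρ k PowerSeries.X)
    rw [ρ_X, ι_X0]

theorem xMap_apply (a : PowerSeries k) : ArSing.xMap k r a = ι k r (ρ k a) := by
  rw [xMap_eq]; rfl

/-- **Structure theorem**: every element of `A_r` is `a(x) + b(x) y`. -/
theorem struct (z : ArSing.ring k r) :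
    ∃ a b : PowerSeries k, z = ArSing.xMap k r a + ArSing.xMap k r b * ArSing.y k r := by
  obtain ⟨a, b, h⟩ := struct₁ k r z
  refine ⟨(ρ k).symm a, (ρ k).symm b, ?_⟩
  rw [xMap_apply, xMap_apply, AlgEquiv.apply_symm_apply, AlgEquiv.apply_symm_apply]
  exact h

theorem struct_zero {a b : PowerSeries k}
    (h : ArSing.xMap k r a + ArSing.xMap k r b * ArSing.y k r = 0) : a = 0 ∧ b = 0 := by
  rw [xMap_apply, xMap_apply] at h
  obtain ⟨h1, h2⟩ := struct₁_unique k r _ _ h
  exact ⟨(map_eq_zero_iff _ (ρ k).injective).mp h1, (map_eq_zero_iff _ (ρ k).injective).mp h2⟩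

theorem struct_inj {a b a' b' : PowerSeries k}
    (h : ArSing.xMap k r a + ArSing.xMap k r b * ArSing.y k r =
      ArSing.xMap k r a' + ArSing.xMap k r b' * ArSing.y k r) : a = a' ∧ b = b' := by
  have : ArSing.xMap k r (a - a') + ArSing.xMap k r (b - b') * ArSing.y k r = 0 := by
    rw [map_sub, map_sub]
    linear_combination h
  obtain ⟨h1, h2⟩ := struct_zero k r this
  exact ⟨sub_eq_zero.mp h1, sub_eq_zero.mp h2⟩

theorem xMap_injective : Function.Injective (ArSing.xMap k r) := by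
  rw [injective_iff_map_eq_zero]
  intro a ha
  have : ArSing.xMap k r a + ArSing.xMap k r 0 * ArSing.y k r = 0 := by simp [ha]
  exact (struct_zero k r this).1

theorem y_sq : ArSing.y k r * ArSing.y k r = ArSing.xMap k r (PowerSeries.X ^ (r + 1)) := by
  rw [map_pow, xMap_X, ← sub_eq_zero, ← pow_two]
  change Ideal.Quotient.mk _ (X 1) ^ 2 - Ideal.Quotient.mk _ (X 0) ^ (r + 1) = 0
  rw [← map_pow, ← map_pow, ← map_sub, Ideal.Quotient.eq_zero_iff_mem]
  exact Ideal.subset_span rfl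

end H5ArSing
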