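import Mathlib
import Groth.Agent.Lib.Helper5.ArSing.Weier
import Groth.Agent.Lib.Helper5.ArSing.Struct

/-!
# Quadratic distinguished polynomials over `k[[x]]` (helper5, for S14311)
-/

set_option autoImplicit false
universe u

namespace H5ArSing

open Polynomial

section general

variable {A : Type*} [CommRing A]

theorem nonempty_equiv_of_natDegree_one (f : Polynomial A) (hm : f.Monic) (hd : f.natDegree = 1) :
    Nonempty ((Polynomial A ⧸ Ideal.span {f}) ≃ₐ[A] A) := by
  have h : f = X - C (-(f.coeff 0)) := by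
    rw [map_neg, sub_neg_eq_add]
    exact hm.eq_X_add_C hd
  exact ⟨(Ideal.quotientEquivAlgOfEq A (congrArg (fun p => Ideal.span {p}) h)).trans
    (Polynomial.quotientSpanXSubCAlgEquiv _)⟩

lemma monic_quadratic_eq (f : Polynomial A) (hm : f.Monic) (hd : f.natDegree = 2) :
    f = X ^ 2 + C (f.coeff 1) * X + C (f.coeff 0) := by
  ext n
  rcases n with _ | _ | _ | n
  · simp
  · simp
  · have : f.coeff 2 = 1 := by
      rw [← hd]
      exact hm.coeff_natDegree
    simp [this]
  · have : f.coeff (n + 3) = 0 := coeff_eq_zero_of_natDegree_lt (by omega)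
    simp [this, coeff_X_pow, coeff_C, coeff_X]

theorem exists_equiv_shift (h2 : IsUnit (2 : A)) (I : Ideal A) (b c : A) (hb : b ∈ I)
    (hc : c ∈ I) :
    ∃ D ∈ I, Nonempty ((Polynomial A ⧸ Ideal.span {X ^ 2 + C b * X + C c}) ≃ₐ[A]
      (Polynomial A ⧸ Ideal.span {X ^ 2 - C D})) := by
  obtain ⟨t, ht⟩ := h2.exists_right_inv
  set s : A := -(t * b) with hs
  have h2s : 2 * s + b = 0 := by
    rw [hs, mul_neg, ← mul_assoc, ht, one_mul, neg_add_cancel]
  have hsI : s ∈ I := by
    rw [hs]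
    exact neg_mem (Ideal.mul_mem_left _ _ hb)
  refine ⟨-(s ^ 2 + b * s + c), neg_mem (add_mem (add_mem (Ideal.pow_mem_of_mem _ hsI 2 (by norm_num))
    (Ideal.mul_mem_left _ _ hsI)) hc), ?_⟩
  refine ⟨Ideal.quotientEquivAlg _ _ (algEquivAevalXAddC s) ?_⟩
  rw [Ideal.map_span, Set.image_singleton]
  congr 2
  change X ^ 2 - C (-(s ^ 2 + b * s + c)) = algEquivAevalXAddC s (X ^ 2 + C b * X + C c)
  rw [algEquivAevalXAddC_apply]
  simp only [map_add, map_mul, map_pow, aeval_X, aeval_C, map_neg, algebraMap_eq]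
  have : (C (2 * s + b) : Polynomial A) = 0 := by rw [h2s, map_zero]
  rw [map_add, map_mul] at this
  have h3 : (C (2 : A) : Polynomial A) = 2 := map_ofNat C 2
  rw [h3] at this
  linear_combination (-X) * this

theorem nonempty_equiv_scale (v : A) (hv : IsUnit v) (D₀ : A) :
    Nonempty ((Polynomial A ⧸ Ideal.span {X ^ 2 - C (D₀ * v ^ 2)}) ≃ₐ[A]
      (Polynomial A ⧸ Ideal.span {X ^ 2 - C D₀})) := by
  letI : Invertible v := hv.invertible
  refine ⟨Ideal.quotientEquivAlg _ _ (algEquivCMulXAddC v 0) ?_⟩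
  rw [Ideal.map_span, Set.image_singleton]
  have h1 : (algEquivCMulXAddC v 0 : Polynomial A →+* Polynomial A) (X ^ 2 - C (D₀ * v ^ 2)) =
      C (v ^ 2) * (X ^ 2 - C D₀) := by
    change algEquivCMulXAddC v 0 (X ^ 2 - C (D₀ * v ^ 2)) = _
    rw [algEquivCMulXAddC_apply]
    simp only [map_sub, map_pow, map_mul, aeval_X, aeval_C, algebraMap_eq, map_zero, add_zero]
    ring
  rw [h1, Ideal.span_singleton_mul_left_unit ((hv.pow 2).map C)]

end general

section P1

open MvPowerSeries

variable (k : Type u) [Field k]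

theorem exists_eq_X_pow_mul (D : P₁ k) (hD : D ≠ 0) :
    ∃ (m : ℕ) (u : P₁ k), IsUnit u ∧ D = (X 0 : P₁ k) ^ m * u := by
  set D' : PowerSeries k := (ρ k).symm D with hD'
  have hD'0 : D' ≠ 0 := by
    intro h
    apply hD
    have := congrArg (ρ k) h
    rwa [hD', AlgEquiv.apply_symm_apply, map_zero] at this
  have h1 : PowerSeries.X ^ D'.order.toNat * PowerSeries.divXPowOrder D' = D' :=
    PowerSeries.X_pow_order_mul_divXPowOrder
  have h2 : IsUnit (PowerSeries.divXPowOrder D') := by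
    rw [PowerSeries.isUnit_iff_constantCoeff, isUnit_iff_ne_zero]
    intro h
    exact hD'0 (PowerSeries.constantCoeff_divXPowOrder_eq_zero_iff.mp h)
  refine ⟨D'.order.toNat, ρ k (PowerSeries.divXPowOrder D'), h2.map (ρ k), ?_⟩
  have h3 := congrArg (ρ k) h1
  rw [hD', AlgEquiv.apply_symm_apply, map_mul, map_pow, ρ_X] at h3
  exact h3.symm

theorem exists_sq_eq (h2 : (2 : k) ≠ 0) [IsAlgClosed k] (u : P₁ k) (hu : IsUnit u) :
    ∃ v : P₁ k, IsUnit v ∧ v ^ 2 = u := by
  have hu0 : constantCoeff u ≠ 0 := by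
    rw [MvPowerSeries.isUnit_iff_constantCoeff, isUnit_iff_ne_zero] at hu
    exact hu
  obtain ⟨c, hc⟩ := IsAlgClosed.exists_pow_nat_eq (constantCoeff u) (n := 2) (by norm_num)
  have hc0 : c ≠ 0 := by
    rintro rfl
    apply hu0
    rw [← hc]
    norm_num
  obtain ⟨v, hv, -⟩ := HenselianRing.is_henselian (R := P₁ k)
    (I := IsLocalRing.maximalIdeal (P₁ k)) (Polynomial.X ^ 2 - Polynomial.C u)
    (Polynomial.monic_X_pow_sub_C u (by norm_num)) (MvPowerSeries.C c : P₁ k) (by
      rw [IsLocalRing.mem_maximalIdeal, mem_nonunits_iff, MvPowerSeries.isUnit_iff_constantCoeff,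
        isUnit_iff_ne_zero, not_not]
      simp [hc]) (by
      apply IsUnit.map
      rw [MvPowerSeries.isUnit_iff_constantCoeff, isUnit_iff_ne_zero]
      simp only [derivative_sub, derivative_X_pow, Nat.cast_ofNat, Nat.add_one_sub_one, pow_one,
        derivative_C, sub_zero, eval_mul, eval_ofNat, eval_X, map_mul]
      refine mul_ne_zero ?_ (by simpa using hc0)
      rw [Polynomial.eval_C, map_ofNat]
      exact h2)
  have hv2 : v ^ 2 = u := by
    have : Polynomial.eval v (Polynomial.X ^ 2 - Polynomial.C u) = 0 := hv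
    simpa [sub_eq_zero] using this
  refine ⟨v, ?_, hv2⟩
  have : IsUnit (v ^ 2) := hv2 ▸ hu
  exact (isUnit_pow_iff (by norm_num)).mp this

end P1

end H5ArSing
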