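import Mathlib
import Groth.Agent.Lib.Helper5.ArSing.Prep1
import Groth.Agent.Lib.Helper5.ArSing.Prep2
import Groth.Agent.Lib.Helper5.ArSing.Coord

/-!
# Normal forms of plane curve germs of multiplicity ≤ 2 (helper5, for S14311)
-/

set_option autoImplicit false
universe u

namespace H5ArSing

open MvPowerSeries Coord

variable (k : Type u) [Field k]

lemma cf_zero_left (G : MvPowerSeries (Fin 2) k) (j : ℕ) :
    cf G 0 j = coeff (Finsupp.single 1 j) G := by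
  simp [cf]

lemma cf_X0_pow (a p q : ℕ) :
    cf ((X 0 : MvPowerSeries (Fin 2) k) ^ a) p q = if p = a ∧ q = 0 then 1 else 0 := by
  have : ((X 0 : MvPowerSeries (Fin 2) k) ^ a) =
      monomial (Finsupp.single 0 a + Finsupp.single 1 0) 1 := by
    rw [X_pow_eq]
    simp
  rw [this, cf_monomial]

lemma cf_X1_pow (a p q : ℕ) :
    cf ((X 1 : MvPowerSeries (Fin 2) k) ^ a) p q = if p = 0 ∧ q = a then 1 else 0 := by
  have : ((X 1 : MvPowerSeries (Fin 2) k) ^ a) =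
      monomial (Finsupp.single 0 0 + Finsupp.single 1 a) 1 := by
    rw [X_pow_eq]
    simp
  rw [this, cf_monomial]

/-- transport of the quotient along an automorphism. -/
noncomputable def transport (θ : MvPowerSeries (Fin 2) k ≃ₐ[k] MvPowerSeries (Fin 2) k)
    (G : MvPowerSeries (Fin 2) k) :
    (MvPowerSeries (Fin 2) k ⧸ Ideal.span {G}) ≃ₐ[k]
      (MvPowerSeries (Fin 2) k ⧸ Ideal.span {θ G}) :=
  Ideal.quotientEquivAlg _ _ θ (by
    rw [Ideal.map_span, Set.image_singleton]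
    rfl)

/-- the smooth case. -/
theorem nonempty_equiv_P1 (G : MvPowerSeries (Fin 2) k) (h0 : cf G 0 0 = 0) (h1 : cf G 0 1 ≠ 0) :
    Nonempty ((MvPowerSeries (Fin 2) k ⧸ Ideal.span {G}) ≃ₐ[k] P₁ k) := by
  obtain ⟨f, hm, hd, -, ⟨e⟩⟩ := exists_distinguished k G 1 (by rwa [← cf_zero_left])
    (by
      intro i hi
      interval_cases i
      rwa [← cf_zero_left])
  obtain ⟨e'⟩ := nonempty_equiv_of_natDegree_one f hm hd
  exact ⟨e.trans (e'.restrictScalars k)⟩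

theorem nonempty_ring_zero_equiv : Nonempty (ArSing.ring k 0 ≃ₐ[k] P₁ k) := by
  obtain ⟨e2⟩ := nonempty_equiv_P1 k (sw (ArSing.eqn k 0))
    (by
      rw [cf_sw, ArSing.eqn]
      have : cf ((X 1 : MvPowerSeries (Fin 2) k) ^ 2 - X 0 ^ (0 + 1)) 0 0 =
          cf ((X 1 : MvPowerSeries (Fin 2) k) ^ 2) 0 0 - cf ((X 0 : MvPowerSeries (Fin 2) k) ^ (0 + 1)) 0 0 :=
        map_sub _ _ _
      rw [this, cf_X1_pow, cf_X0_pow]
      simp)
    (by
      rw [cf_sw, ArSing.eqn]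
      have : cf ((X 1 : MvPowerSeries (Fin 2) k) ^ 2 - X 0 ^ (0 + 1)) 1 0 =
          cf ((X 1 : MvPowerSeries (Fin 2) k) ^ 2) 1 0 - cf ((X 0 : MvPowerSeries (Fin 2) k) ^ (0 + 1)) 1 0 :=
        map_sub _ _ _
      rw [this, cf_X1_pow, cf_X0_pow]
      simp)
  exact ⟨(transport k sw (ArSing.eqn k 0)).trans e2⟩

/-- the conclusion: an `A_r`-singularity or a double line. -/
def IsNF (G : MvPowerSeries (Fin 2) k) : Prop :=
  (∃ r : ℕ, Nonempty ((MvPowerSeries (Fin 2) k ⧸ Ideal.span {G}) ≃ₐ[k] ArSing.ring k r)) ∨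
    Nonempty ((MvPowerSeries (Fin 2) k ⧸ Ideal.span {G}) ≃ₐ[k]
      (MvPowerSeries (Fin 2) k ⧸ Ideal.span {(X 1 : MvPowerSeries (Fin 2) k) ^ 2}))

variable {k}

lemma IsNF.of_equiv {G G' : MvPowerSeries (Fin 2) k}
    (e : (MvPowerSeries (Fin 2) k ⧸ Ideal.span {G}) ≃ₐ[k]
      (MvPowerSeries (Fin 2) k ⧸ Ideal.span {G'})) (h : IsNF k G') : IsNF k G := by
  rcases h with ⟨r, ⟨e'⟩⟩ | ⟨⟨e'⟩⟩
  · exact Or.inl ⟨r, ⟨e.trans e'⟩⟩
  · exact Or.inr ⟨e.trans e'⟩

variable (k)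

theorem isNF_of_order_one (G : MvPowerSeries (Fin 2) k) (h0 : cf G 0 0 = 0) (h1 : cf G 0 1 ≠ 0) :
    IsNF k G := by
  obtain ⟨e⟩ := nonempty_equiv_P1 k G h0 h1
  obtain ⟨e'⟩ := nonempty_ring_zero_equiv k
  exact Or.inl ⟨0, ⟨e.trans e'.symm⟩⟩

theorem isNF_of_order_two (h2 : (2 : k) ≠ 0) [IsAlgClosed k] (G : MvPowerSeries (Fin 2) k)
    (h0 : cf G 0 0 = 0) (h1 : cf G 0 1 = 0) (h2' : cf G 0 2 ≠ 0) : IsNF k G := by
  obtain ⟨f, hm, hd, hmem, ⟨e⟩⟩ := exists_distinguished k G 2 (by rwa [← cf_zero_left])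
    (by
      intro i hi
      interval_cases i
      · rwa [← cf_zero_left]
      · rwa [← cf_zero_left])
  have hf := monic_quadratic_eq f hm hd
  have e2 : (Polynomial (P₁ k) ⧸ Ideal.span {f}) ≃ₐ[P₁ k]
      (Polynomial (P₁ k) ⧸ Ideal.span {Polynomial.X ^ 2 + Polynomial.C (f.coeff 1) * Polynomial.X +
        Polynomial.C (f.coeff 0)}) :=
    Ideal.quotientEquivAlgOfEq (P₁ k) (congrArg (fun p => Ideal.span {p}) hf)
  have hu2 : IsUnit (2 : P₁ k) := by
    have := (isUnit_iff_ne_zero.mpr h2).map (C : k →+* P₁ k)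
    rwa [map_ofNat] at this
  obtain ⟨D, hD, ⟨e3⟩⟩ := exists_equiv_shift hu2 (IsLocalRing.maximalIdeal (P₁ k)) (f.coeff 1)
    (f.coeff 0) (hmem 1 (by norm_num)) (hmem 0 (by norm_num))
  by_cases hD0 : D = 0
  · subst hD0
    right
    have hX2 : (Polynomial.X ^ 2 : Polynomial (P₁ k)).IsDistinguishedAt
        (IsLocalRing.maximalIdeal (P₁ k)) := by
      refine ⟨⟨?_⟩, Polynomial.monic_X_pow 2⟩
      intro n hn
      rw [Polynomial.natDegree_X_pow] at hn
      rw [Polynomial.coeff_X_pow, if_neg (by omega)]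
      exact zero_mem _
    obtain ⟨e4⟩ := nonempty_equiv_of_distinguished k _ hX2
    have e3' : (Polynomial (P₁ k) ⧸ Ideal.span {Polynomial.X ^ 2 - Polynomial.C (0 : P₁ k)}) ≃ₐ[P₁ k]
        (Polynomial (P₁ k) ⧸ Ideal.span {(Polynomial.X ^ 2 : Polynomial (P₁ k))}) :=
      Ideal.quotientEquivAlgOfEq (P₁ k) (by rw [map_zero, sub_zero])
    have hE : (E k).symm (((Polynomial.X ^ 2 : Polynomial (P₁ k)) : PowerSeries (P₁ k))) =
        (X 1 : MvPowerSeries (Fin 2) k) ^ 2 := by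
      rw [Polynomial.coe_pow, Polynomial.coe_X, map_pow, E_symm_X]
    rw [hE] at e4
    exact ⟨e.trans (((e2.trans (e3.trans e3')).restrictScalars k).trans e4)⟩
  · left
    obtain ⟨m, u, hu, hDeq⟩ := exists_eq_X_pow_mul k D hD0
    have hm0 : m ≠ 0 := by
      rintro rfl
      rw [pow_zero, one_mul] at hDeq
      rw [hDeq, IsLocalRing.mem_maximalIdeal, mem_nonunits_iff] at hD
      exact hD hu
    obtain ⟨r, rfl⟩ := Nat.exists_eq_succ_of_ne_zero hm0
    obtain ⟨v, hv, hv2⟩ := exists_sq_eq k h2 u hu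
    obtain ⟨e4⟩ := nonempty_equiv_scale v hv ((X 0 : P₁ k) ^ (r + 1))
    rw [hv2, ← hDeq] at e4
    have e5 : (Polynomial (P₁ k) ⧸ Ideal.span {Polynomial.X ^ 2 -
        Polynomial.C ((X 0 : P₁ k) ^ (r + 1))}) ≃ₐ[k] ArSing.ring k r :=
      ((q₂ k r).restrictScalars k).trans (q₁ k r).symm
    exact ⟨r, ⟨e.trans (((e2.trans (e3.trans e4)).restrictScalars k).trans e5)⟩⟩

/-- **normal form**: a germ in `𝔪 \ 𝔪³` is an `A_r`-singularity or a double line. -/
theorem isNF_of_not_mem_cube (h2 : (2 : k) ≠ 0) [IsAlgClosed k] (G : MvPowerSeries (Fin 2) k)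
    (hG : G ∈ IsLocalRing.maximalIdeal (MvPowerSeries (Fin 2) k))
    (hG3 : G ∉ IsLocalRing.maximalIdeal (MvPowerSeries (Fin 2) k) ^ 3) : IsNF k G := by
  have h00 : cf G 0 0 = 0 := by
    rw [← pow_one (IsLocalRing.maximalIdeal (MvPowerSeries (Fin 2) k)), mem_pow_iff] at hG
    exact hG 0 0 (by norm_num)
  by_cases hβ : cf G 0 1 = 0
  · by_cases hα : cf G 1 0 = 0
    · by_cases hc : cf G 0 2 = 0
      · by_cases ha : cf G 2 0 = 0
        · have hb : cf G 1 1 ≠ 0 := by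
            intro hb
            apply hG3
            rw [mem_pow_iff]
            intro p q hpq
            have : (p = 0 ∧ q = 0) ∨ (p = 1 ∧ q = 0) ∨ (p = 0 ∧ q = 1) ∨ (p = 2 ∧ q = 0) ∨
                (p = 1 ∧ q = 1) ∨ (p = 0 ∧ q = 2) := by omega
            rcases this with ⟨rfl, rfl⟩ | ⟨rfl, rfl⟩ | ⟨rfl, rfl⟩ | ⟨rfl, rfl⟩ | ⟨rfl, rfl⟩ |
              ⟨rfl, rfl⟩ <;> assumption
          obtain ⟨s0, s1, s2⟩ := cf_shear G h00 hα hβ ha hc
          exact IsNF.of_equiv (transport k (shear 1) G)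
            (isNF_of_order_two k h2 _ s0 s1 (by rw [s2]; exact hb))
        · exact IsNF.of_equiv (transport k sw G)
            (isNF_of_order_two k h2 _ (by rw [cf_sw]; exact h00) (by rw [cf_sw]; exact hα)
              (by rw [cf_sw]; exact ha))
      · exact isNF_of_order_two k h2 G h00 hβ hc
    · exact IsNF.of_equiv (transport k sw G)
        (isNF_of_order_one k _ (by rw [cf_sw]; exact h00) (by rw [cf_sw]; exact hα))
  · exact isNF_of_order_one k G h00 hβ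

end H5ArSing
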