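import Mathlib
import Groth.Agent.Lib.Helper5.ArSing.Normal
import Groth.Agent.Lib.Helper5.ArSing.NoIso
import Groth.Agent.Lib.Helper5.ArSing.Taylor

/-!
# S14311: vanishing gradient and Hessian iff not an `A_n`-singularity nor a double line (helper5)
-/

set_option autoImplicit false
universe u

namespace H5ArSing

open MvPowerSeries Coord

variable (k : Type u) [Field k]

lemma cf_eqn (n p q : ℕ) :
    cf (ArSing.eqn k n) p q = (if p = 0 ∧ q = 2 then 1 else 0) - (if p = n + 1 ∧ q = 0 then 1 else 0) := by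
  have : cf ((X 1 : MvPowerSeries (Fin 2) k) ^ 2 - X 0 ^ (n + 1)) p q =
      cf ((X 1 : MvPowerSeries (Fin 2) k) ^ 2) p q - cf ((X 0 : MvPowerSeries (Fin 2) k) ^ (n + 1)) p q :=
    map_sub _ _ _
  rw [ArSing.eqn, this, cf_X1_pow, cf_X0_pow]

lemma eqn_mem (n : ℕ) : ArSing.eqn k n ∈ IsLocalRing.maximalIdeal (MvPowerSeries (Fin 2) k) := by
  rw [← pow_one (IsLocalRing.maximalIdeal (MvPowerSeries (Fin 2) k)), mem_pow_iff]
  intro p q hpq
  have hp : p = 0 := by omega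
  have hq : q = 0 := by omega
  subst hp hq
  rw [cf_eqn]
  simp

lemma eqn_not_mem_cube (n : ℕ) :
    ArSing.eqn k n ∉ IsLocalRing.maximalIdeal (MvPowerSeries (Fin 2) k) ^ 3 := by
  rw [mem_pow_iff]
  intro H
  have := H 0 2 (by norm_num)
  rw [cf_eqn] at this
  simp at this

lemma sq_mem : (X 1 : MvPowerSeries (Fin 2) k) ^ 2 ∈
    IsLocalRing.maximalIdeal (MvPowerSeries (Fin 2) k) := by
  rw [← pow_one (IsLocalRing.maximalIdeal (MvPowerSeries (Fin 2) k)), mem_pow_iff]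
  intro p q hpq
  have hp : p = 0 := by omega
  have hq : q = 0 := by omega
  subst hp hq
  rw [cf_X1_pow]
  simp

lemma sq_not_mem_cube : (X 1 : MvPowerSeries (Fin 2) k) ^ 2 ∉
    IsLocalRing.maximalIdeal (MvPowerSeries (Fin 2) k) ^ 3 := by
  rw [mem_pow_iff]
  intro H
  have := H 0 2 (by norm_num)
  rw [cf_X1_pow] at this
  simp at this

variable {k}

theorem main14311 [IsAlgClosed k] (h2 : (2 : k) ≠ 0) (f : MvPolynomial (Fin 2) k) (a : Fin 2 → k)
    (hfa : MvPolynomial.eval a f = 0) :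
    ((∀ i : Fin 2, MvPolynomial.eval a (MvPolynomial.pderiv i f) = 0) ∧
      ∀ i j : Fin 2, MvPolynomial.eval a (MvPolynomial.pderiv i (MvPolynomial.pderiv j f)) = 0) ↔
    ¬ ((∃ n : ℕ, Nonempty ((MvPowerSeries (Fin 2) k ⧸ Ideal.span
        ({(MvPolynomial.aeval (fun i : Fin 2 => MvPolynomial.X i + MvPolynomial.C (a i)) f).toMvPowerSeries} :
          Set (MvPowerSeries (Fin 2) k))) ≃ₐ[k] ArSing.ring k n)) ∨
        Nonempty ((MvPowerSeries (Fin 2) k ⧸ Ideal.span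
        ({(MvPolynomial.aeval (fun i : Fin 2 => MvPolynomial.X i + MvPolynomial.C (a i)) f).toMvPowerSeries} :
          Set (MvPowerSeries (Fin 2) k))) ≃ₐ[k]
          (MvPowerSeries (Fin 2) k ⧸ Ideal.span ({MvPowerSeries.X 1 ^ 2} : Set (MvPowerSeries (Fin 2) k))))) := by
  rw [← H5ArSing.Taylor.F_def]
  have hG1 := (H5ArSing.Taylor.F_mem_maximalIdeal_iff a f).2 hfa
  constructor
  · rintro ⟨h1, h2'⟩ hcontra
    have hG3 := (H5ArSing.Taylor.F_mem_cube_iff a f h2).2 ⟨hfa, h1, h2'⟩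
    rcases hcontra with ⟨n, ⟨e⟩⟩ | ⟨⟨e⟩⟩
    · exact (H5ArSing.NoIso.isEmpty_equiv _ (ArSing.eqn k n) 3 (by norm_num) hG3 (eqn_mem k n)
        (eqn_not_mem_cube k n)).false e.toRingEquiv
    · exact (H5ArSing.NoIso.isEmpty_equiv _ ((X 1 : MvPowerSeries (Fin 2) k) ^ 2) 3 (by norm_num) hG3
        (sq_mem k) (sq_not_mem_cube k)).false e.toRingEquiv
  · intro hnot
    by_contra hcon
    have hG3 : H5ArSing.Taylor.F a f ∉ IsLocalRing.maximalIdeal (MvPowerSeries (Fin 2) k) ^ 3 := by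
      intro h
      have := (H5ArSing.Taylor.F_mem_cube_iff a f h2).1 h
      exact hcon ⟨this.2.1, this.2.2⟩
    exact hnot (isNF_of_not_mem_cube k h2 _ hG1 hG3)

end H5ArSing
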