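import Mathlib

set_option autoImplicit false
universe u

namespace H5ArSing

open PowerSeries

variable {k : Type u} [Field k]

/-- even part -/
noncomputable def ev (a : PowerSeries k) : PowerSeries k := mk fun n => coeff (2 * n) a
/-- odd part -/
noncomputable def od (a : PowerSeries k) : PowerSeries k := mk fun n => coeff (2 * n + 1) a

/-- `a ↦ a(X²)` -/
noncomputable abbrev E2 : PowerSeries k →ₐ[k] PowerSeries k := expand 2 two_ne_zero

lemma coeff_E2_even (a : PowerSeries k) (m : ℕ) : coeff (2 * m) (E2 a) = coeff m a :=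
  coeff_expand_mul 2 two_ne_zero a m

lemma coeff_E2_odd (a : PowerSeries k) (m : ℕ) : coeff (2 * m + 1) (E2 a) = 0 :=
  coeff_expand_of_not_dvd 2 two_ne_zero a (by omega)

lemma coeff_X_mul_E2_even (a : PowerSeries k) (m : ℕ) : coeff (2 * m) (X * E2 a) = 0 := by
  rcases m with _ | m
  · simp
  · rw [show 2 * (m + 1) = (2 * m + 1) + 1 by ring, coeff_succ_X_mul, coeff_E2_odd]

lemma coeff_X_mul_E2_odd (a : PowerSeries k) (m : ℕ) :
    coeff (2 * m + 1) (X * E2 a) = coeff m a := by
  rw [coeff_succ_X_mul, coeff_E2_even]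

theorem parity_decomp (a : PowerSeries k) : a = E2 (ev a) + X * E2 (od a) := by
  ext n
  rcases Nat.even_or_odd' n with ⟨m, rfl | rfl⟩
  · rw [map_add, coeff_E2_even, coeff_X_mul_E2_even, add_zero, ev, coeff_mk]
  · rw [map_add, coeff_E2_odd, coeff_X_mul_E2_odd, zero_add, od, coeff_mk]

theorem parity_unique {e o : PowerSeries k} (h : E2 e + X * E2 o = 0) : e = 0 ∧ o = 0 := by
  constructor
  · ext m
    have := congrArg (coeff (2 * m)) h
    rw [map_add, coeff_E2_even, coeff_X_mul_E2_even, add_zero] at this
    simpa using this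
  · ext m
    have := congrArg (coeff (2 * m + 1)) h
    rw [map_add, coeff_E2_odd, coeff_X_mul_E2_odd, zero_add] at this
    simpa using this

lemma rescale_neg_E2 (a : PowerSeries k) : rescale (-1 : k) (E2 a) = E2 a := by
  ext n
  rw [coeff_rescale]
  rcases Nat.even_or_odd' n with ⟨m, rfl | rfl⟩
  · rw [pow_mul]; simp
  · rw [coeff_E2_odd, mul_zero]

lemma rescale_neg_X_mul_E2 (a : PowerSeries k) :
    rescale (-1 : k) (X * E2 a) = -(X * E2 a) := by
  rw [map_mul, rescale_neg_E2, rescale_X]
  simp

theorem rescale_neg_eq (a : PowerSeries k) :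
    rescale (-1 : k) a = E2 (ev a) - X * E2 (od a) := by
  conv_lhs => rw [parity_decomp a]
  rw [map_add, rescale_neg_E2, rescale_neg_X_mul_E2]
  ring

theorem rescale_neg_sub (a : PowerSeries k) :
    rescale (-1 : k) a - a = X * (-(2 : PowerSeries k) * E2 (od a)) := by
  have h1 := rescale_neg_eq a
  have h2 := parity_decomp a
  generalize E2 (ev a) = e at h1 h2
  generalize E2 (od a) = o at h1 h2 ⊢
  rw [h1]
  conv_lhs => rw [h2]
  ring

theorem rescale_neg_eq_self_iff (h2 : (2 : k) ≠ 0) (a : PowerSeries k) :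
    rescale (-1 : k) a = a ↔ a = E2 (ev a) := by
  constructor
  · intro h
    have h1 := rescale_neg_sub a
    rw [h, sub_self] at h1
    have h3 : (2 : PowerSeries k) ≠ 0 := by
      intro h'
      have := congrArg (constantCoeff (R := k)) h'
      simp at this
      exact h2 this
    have h4 : E2 (od a) = 0 := by
      rcases mul_eq_zero.mp h1.symm with h5 | h5
      · exact absurd h5 X_ne_zero
      · rcases mul_eq_zero.mp h5 with h6 | h6
        · exact absurd (neg_eq_zero.mp h6) h3
        · exact h6
    have := parity_decomp a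
    rw [h4, mul_zero, add_zero] at this
    exact this
  · intro h
    rw [h, rescale_neg_E2]

end H5ArSing
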