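import Groth.Agent.Lib.Helper5.ArSing.NegY
import Groth.Agent.Lib.Helper5.ArSing.Parity

set_option autoImplicit false
universe u

namespace H5ArSing

open MvPowerSeries

variable {k : Type u} [Field k]

section general

variable {r : ℕ} (σ : ArSing.ring k r ≃ₐ[k] ArSing.ring k r)
  (hx : σ (ArSing.x k r) = -ArSing.x k r)

include hx in
lemma σ_xMap_neg (a : PowerSeries k) :
    σ (ArSing.xMap k r a) = ArSing.xMap k r (PowerSeries.rescale (-1 : k) a) := by
  have : (σ : ArSing.ring k r →ₐ[k] ArSing.ring k r).comp (ArSing.xMap k r) =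
      (ArSing.xMap k r).comp (PowerSeries.rescaleAlgHom (-1 : k)) := by
    apply ext_P (𝔫 k r) (sep k r)
    · rw [AlgHom.comp_apply, xMap_X]
      change σ (ArSing.x k r) ∈ _
      rw [hx]; exact neg_mem (x_mem k r)
    · rw [AlgHom.comp_apply, AlgHom.comp_apply, xMap_X]
      have : PowerSeries.rescaleAlgHom (-1 : k) PowerSeries.X = -PowerSeries.X := by
        have h := PowerSeries.coe_rescaleAlgHom (-1 : k)
        have h' : PowerSeries.rescaleAlgHom (-1 : k) PowerSeries.X =
            PowerSeries.rescale (-1 : k) PowerSeries.X := by rw [← h]; rfl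
        rw [h', PowerSeries.rescale_X]; simp
      rw [this, map_neg, xMap_X]
      exact hx
  have h1 := DFunLike.congr_fun this a
  rw [AlgHom.comp_apply, AlgHom.comp_apply] at h1
  have h := PowerSeries.coe_rescaleAlgHom (-1 : k)
  have h' : PowerSeries.rescaleAlgHom (-1 : k) a = PowerSeries.rescale (-1 : k) a := by
    rw [← h]; rfl
  rw [h'] at h1
  exact h1

lemma x_mul (k : Type u) [Field k] (r : ℕ) (a b : PowerSeries k) :
    ArSing.x k r * (ArSing.xMap k r a + ArSing.xMap k r b * ArSing.y k r) =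
      ArSing.xMap k r (PowerSeries.X * a) + ArSing.xMap k r (PowerSeries.X * b) * ArSing.y k r := by
  rw [map_mul, map_mul, xMap_X]
  ring

lemma x_mem_nzd (k : Type u) [Field k] (r : ℕ) :
    ArSing.x k r ∈ nonZeroDivisors (ArSing.ring k r) := by
  rw [mem_nonZeroDivisors_iff_right]
  intro z hz
  obtain ⟨a, b, rfl⟩ := struct k r z
  rw [mul_comm, x_mul] at hz
  obtain ⟨h2, h3⟩ := struct_zero k r hz
  have ha : a = 0 := (mul_eq_zero.mp h2).resolve_left PowerSeries.X_ne_zero
  have hb : b = 0 := (mul_eq_zero.mp h3).resolve_left PowerSeries.X_ne_zero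
  rw [ha, hb]; simp

end general

section expandmap

variable {m r : ℕ} (φ : ArSing.ring k m →ₐ[k] ArSing.ring k r)
  (hφx : φ (ArSing.x k m) = ArSing.x k r ^ 2)

include hφx in
lemma φ_xMap (a : PowerSeries k) : φ (ArSing.xMap k m a) = ArSing.xMap k r (E2 a) := by
  have : φ.comp (ArSing.xMap k m) = (ArSing.xMap k r).comp E2 := by
    apply ext_P (𝔫 k r) (sep k r)
    · rw [AlgHom.comp_apply, xMap_X, hφx]
      exact Ideal.pow_mem_of_mem _ (x_mem k r) 2 (by norm_num)
    · rw [AlgHom.comp_apply, AlgHom.comp_apply, xMap_X, hφx, PowerSeries.expand_X, map_pow, xMap_X]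
  exact DFunLike.congr_fun this a

end expandmap



section main94

theorem main14094 (k : Type u) [Field k] [IsAlgClosed k] (m r : ℕ)
    (hm : 2 ≤ m) (hr : r = 2 * m - 1) (h2 : (2 : k) ≠ 0) (hr1 : ((r + 1 : ℕ) : k) ≠ 0)
    (σ : ArSing.ring k r ≃ₐ[k] ArSing.ring k r) (hx : σ (ArSing.x k r) = -ArSing.x k r)
    (hy : σ (ArSing.y k r) = ArSing.y k r)
    (φ : ArSing.ring k (m - 1) →ₐ[k] ArSing.ring k r) (hφx : φ (ArSing.x k (m - 1)) = ArSing.x k r ^ 2)
    (hφy : φ (ArSing.y k (m - 1)) = ArSing.y k r) :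
    (∀ a : ArSing.ring k r, σ a = a ↔ a ∈ φ.range) ∧
    (φ.toRingHom.Flat ∧ ∀ I : Ideal (ArSing.ring k (m - 1)), I.IsMaximal → Ideal.map φ I ≠ ⊤) ∧
    (∃ g : ArSing.ring k r, g ∈ nonZeroDivisors (ArSing.ring k r) ∧ Ideal.span (Set.range fun a : ArSing.ring k r => σ a - a) = Ideal.span {g}) ∧
    Module.length (ArSing.ring k r) (ArSing.ring k r ⧸ Ideal.span (Set.range fun a : ArSing.ring k r => σ a - a)) = 2 := by
  -- action of σ and φ in coordinates
  have hσ : ∀ a b : PowerSeries k, σ (ArSing.xMap k r a + ArSing.xMap k r b * ArSing.y k r) =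
      ArSing.xMap k r (PowerSeries.rescale (-1 : k) a) +
        ArSing.xMap k r (PowerSeries.rescale (-1 : k) b) * ArSing.y k r := by
    intro a b
    rw [map_add, map_mul, σ_xMap_neg σ hx, σ_xMap_neg σ hx, hy]
  have hφ : ∀ a b : PowerSeries k,
      φ (ArSing.xMap k (m - 1) a + ArSing.xMap k (m - 1) b * ArSing.y k (m - 1)) =
      ArSing.xMap k r (E2 a) + ArSing.xMap k r (E2 b) * ArSing.y k r := by
    intro a b
    rw [map_add, map_mul, φ_xMap φ hφx, φ_xMap φ hφx, hφy]
  have hD : Ideal.span (Set.range fun a : ArSing.ring k r => σ a - a) = Ideal.span {ArSing.x k r} := by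
    apply le_antisymm
    · rw [Ideal.span_le]
      rintro _ ⟨z, rfl⟩
      obtain ⟨a, b, rfl⟩ := struct k r z
      beta_reduce
      rw [hσ, SetLike.mem_coe, Ideal.mem_span_singleton]
      refine ⟨ArSing.xMap k r (-(2 : PowerSeries k) * E2 (od a)) +
        ArSing.xMap k r (-(2 : PowerSeries k) * E2 (od b)) * ArSing.y k r, ?_⟩
      rw [x_mul, ← rescale_neg_sub, ← rescale_neg_sub, map_sub, map_sub]
      ring
    · rw [Ideal.span_le, Set.singleton_subset_iff, SetLike.mem_coe]
      have h1 : σ (ArSing.x k r) - ArSing.x k r ∈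
          Ideal.span (Set.range fun a : ArSing.ring k r => σ a - a) :=
        Ideal.subset_span ⟨_, rfl⟩
      have h3 : ArSing.x k r = algebraMap k _ (-(2 : k)⁻¹) * (σ (ArSing.x k r) - ArSing.x k r) := by
        rw [hx]
        have : (-ArSing.x k r - ArSing.x k r) = algebraMap k (ArSing.ring k r) (-2) * ArSing.x k r := by
          simp only [map_neg, map_ofNat]
          ring
        rw [this, ← mul_assoc, ← map_mul]
        have : (-(2 : k)⁻¹) * (-2) = 1 := by field_simp
        rw [this, map_one, one_mul]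
      rw [h3]
      exact Ideal.mul_mem_left _ _ h1
  refine ⟨?_, ⟨?_, ?_⟩, ⟨ArSing.x k r, x_mem_nzd k r, hD⟩, ?_⟩
  · -- fixed ring
    intro z
    constructor
    · intro hz
      obtain ⟨a, b, rfl⟩ := struct k r z
      rw [hσ] at hz
      obtain ⟨ha, hb⟩ := struct_inj k r hz
      rw [rescale_neg_eq_self_iff h2] at ha hb
      refine ⟨ArSing.xMap k (m - 1) (ev a) + ArSing.xMap k (m - 1) (ev b) * ArSing.y k (m - 1), ?_⟩
      change φ _ = _
      rw [hφ, ← ha, ← hb]
    · rintro ⟨w, rfl⟩
      obtain ⟨c, d, rfl⟩ := struct k (m - 1) w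
      change σ (φ _) = φ _
      rw [hφ, hσ, rescale_neg_E2, rescale_neg_E2]
  · -- flat
    letI : Algebra (ArSing.ring k (m - 1)) (ArSing.ring k r) := φ.toRingHom.toAlgebra
    change Module.Flat (ArSing.ring k (m - 1)) (ArSing.ring k r)
    have hsmul : ∀ (p : ArSing.ring k (m - 1)) (z : ArSing.ring k r), p • z = φ p * z :=
      fun p z => rfl
    let ψ : (ArSing.ring k (m - 1) × ArSing.ring k (m - 1)) →ₗ[ArSing.ring k (m - 1)]
        ArSing.ring k r :=
      { toFun := fun p => φ p.1 + φ p.2 * ArSing.x k r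
        map_add' := by
          intro p q
          simp only [Prod.fst_add, Prod.snd_add, map_add]
          ring
        map_smul' := by
          intro c p
          simp only [Prod.smul_fst, Prod.smul_snd, smul_eq_mul, map_mul, RingHom.id_apply, hsmul]
          ring }
    have hψ : ∀ a₁ b₁ a₂ b₂ : PowerSeries k,
        ψ (ArSing.xMap k (m - 1) a₁ + ArSing.xMap k (m - 1) b₁ * ArSing.y k (m - 1),
          ArSing.xMap k (m - 1) a₂ + ArSing.xMap k (m - 1) b₂ * ArSing.y k (m - 1)) =
        ArSing.xMap k r (E2 a₁ + PowerSeries.X * E2 a₂) +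
          ArSing.xMap k r (E2 b₁ + PowerSeries.X * E2 b₂) * ArSing.y k r := by
      intro a₁ b₁ a₂ b₂
      change φ _ + φ _ * ArSing.x k r = _
      rw [hφ, hφ, mul_comm _ (ArSing.x k r), x_mul]
      simp only [map_add]
      ring
    have hbij : Function.Bijective ψ := by
      constructor
      · rw [← LinearMap.ker_eq_bot, LinearMap.ker_eq_bot']
        rintro ⟨u, v⟩ h
        obtain ⟨a₁, b₁, rfl⟩ := struct k (m - 1) u
        obtain ⟨a₂, b₂, rfl⟩ := struct k (m - 1) v
        rw [hψ] at h
        obtain ⟨h1, h3⟩ := struct_zero k r h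
        obtain ⟨e1, e2⟩ := parity_unique h1
        obtain ⟨e3, e4⟩ := parity_unique h3
        rw [e1, e2, e3, e4]
        simp
      · intro z
        obtain ⟨a, b, rfl⟩ := struct k r z
        refine ⟨(ArSing.xMap k (m - 1) (ev a) + ArSing.xMap k (m - 1) (ev b) * ArSing.y k (m - 1),
          ArSing.xMap k (m - 1) (od a) + ArSing.xMap k (m - 1) (od b) * ArSing.y k (m - 1)), ?_⟩
        rw [hψ, ← parity_decomp, ← parity_decomp]
    exact Module.Flat.of_linearEquiv (LinearEquiv.ofBijective ψ hbij).symm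
  · -- maximal ideals
    intro I hI
    have hI' : I = 𝔫 k (m - 1) := by
      rw [𝔫_eq_maximalIdeal]; exact IsLocalRing.eq_maximalIdeal hI
    rw [hI']
    intro h
    have hle : Ideal.map φ (𝔫 k (m - 1)) ≤ 𝔫 k r := by
      rw [𝔫, Ideal.map_span, Ideal.span_le]
      rintro _ ⟨z, (rfl | rfl), rfl⟩
      · change φ _ ∈ _
        rw [hφx]; exact Ideal.pow_mem_of_mem _ (x_mem k r) 2 (by norm_num)
      · change φ _ ∈ _
        rw [hφy]; exact y_mem k r
    exact 𝔫_ne_top k r (top_le_iff.mp (h ▸ hle))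
  · -- length
    rw [hD]
    let L : ArSing.ring k r →ₗ[k] (Fin 2 → k) :=
      (LinearMap.pi ![(PowerSeries.coeff (R := k) 0).comp (LinearMap.fst k (PowerSeries k) (PowerSeries k)),
        (PowerSeries.coeff (R := k) 0).comp (LinearMap.snd k (PowerSeries k) (PowerSeries k))]).comp
        (coords k r).symm.toLinearMap
    have hL : ∀ a b : PowerSeries k, L (ArSing.xMap k r a + ArSing.xMap k r b * ArSing.y k r) =
        ![PowerSeries.coeff 0 a, PowerSeries.coeff 0 b] := by
      intro a b
      simp only [L, LinearMap.comp_apply, LinearEquiv.coe_coe, coords_symm]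
      funext i
      fin_cases i <;> rfl
    have := length_quot_eq k r (Ideal.span {ArSing.x k r}) 2 L
      (by
        intro v
        refine ⟨ArSing.xMap k r (PowerSeries.C (v 0)) + ArSing.xMap k r (PowerSeries.C (v 1)) * ArSing.y k r, ?_⟩
        rw [hL]
        funext i
        fin_cases i <;> simp)
      (by
        intro z
        obtain ⟨a, b, rfl⟩ := struct k r z
        rw [hL, Ideal.mem_span_singleton]
        constructor
        · intro h
          have ha : PowerSeries.coeff 0 a = 0 := by simpa using congrFun h 0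
          have hb : PowerSeries.coeff 0 b = 0 := by simpa using congrFun h 1
          rw [PowerSeries.coeff_zero_eq_constantCoeff_apply, ← PowerSeries.X_dvd_iff] at ha hb
          obtain ⟨a', rfl⟩ := ha
          obtain ⟨b', rfl⟩ := hb
          exact ⟨_, (x_mul k r a' b').symm⟩
        · rintro ⟨w, hw⟩
          obtain ⟨c, d, rfl⟩ := struct k r w
          rw [x_mul] at hw
          obtain ⟨ha, hb⟩ := struct_inj k r hw
          rw [ha, hb]
          funext i
          fin_cases i <;> simp)
    rw [this]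
    rfl

end main94

end H5ArSing
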