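import Groth.Agent.Lib.Helper5.ArSing.NegX

set_option autoImplicit false
universe u

namespace H5ArSing

open MvPowerSeries

variable {k : Type u} [Field k]

lemma neg_rescale_eq_self_iff (h2 : (2 : k) ≠ 0) (b : PowerSeries k) :
    -(PowerSeries.rescale (-1 : k) b) = b ↔ b = PowerSeries.X * E2 (od b) := by
  have h1 := rescale_neg_eq b
  have h3 := parity_decomp b
  constructor
  · intro h
    have h4 : (2 : PowerSeries k) * E2 (ev b) = 0 := by
      have : -(E2 (ev b) - PowerSeries.X * E2 (od b)) = E2 (ev b) + PowerSeries.X * E2 (od b) := by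
        rw [← h1, h, ← h3]
      linear_combination -this
    have h5 : E2 (ev b) = 0 := (mul_eq_zero.mp h4).resolve_left (two_ne_zero_P h2)
    rw [h5, zero_add] at h3
    exact h3
  · intro h
    rw [h, rescale_neg_X_mul_E2, neg_neg]

lemma aug_coords (r : ℕ) (a b : PowerSeries k) :
    aug k r (ArSing.xMap k r a + ArSing.xMap k r b * ArSing.y k r) = PowerSeries.constantCoeff a := by
  rw [map_add, map_mul, aug_xMap, aug_y, mul_zero, add_zero]

lemma mem_𝔫_iff (r : ℕ) (a b : PowerSeries k) :
    ArSing.xMap k r a + ArSing.xMap k r b * ArSing.y k r ∈ 𝔫 k r ↔ PowerSeries.constantCoeff a = 0 := by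
  constructor
  · intro h
    have := 𝔫_le_ker k r h
    rwa [RingHom.mem_ker, aug_coords] at this
  · intro h
    rw [← PowerSeries.X_dvd_iff] at h
    obtain ⟨a', rfl⟩ := h
    rw [map_mul, xMap_X]
    exact add_mem (Ideal.mul_mem_right _ _ (x_mem k r)) (Ideal.mul_mem_left _ _ (y_mem k r))

/-- the functional `z ↦ b(0)` -/
noncomputable def μ (k : Type u) [Field k] (r : ℕ) : ArSing.ring k r →ₗ[k] k :=
  (PowerSeries.coeff (R := k) 0).comp
    ((LinearMap.snd k (PowerSeries k) (PowerSeries k)).comp (coords k r).symm.toLinearMap)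

lemma μ_apply (r : ℕ) (a b : PowerSeries k) :
    μ k r (ArSing.xMap k r a + ArSing.xMap k r b * ArSing.y k r) = PowerSeries.coeff 0 b := by
  simp only [μ, LinearMap.comp_apply, LinearEquiv.coe_coe, coords_symm]
  rfl

/-- the functional `z ↦ a_1` -/
noncomputable def lam (k : Type u) [Field k] (r : ℕ) : ArSing.ring k r →ₗ[k] k :=
  (PowerSeries.coeff (R := k) 1).comp
    ((LinearMap.fst k (PowerSeries k) (PowerSeries k)).comp (coords k r).symm.toLinearMap)

lemma lam_apply (r : ℕ) (a b : PowerSeries k) :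
    lam k r (ArSing.xMap k r a + ArSing.xMap k r b * ArSing.y k r) = PowerSeries.coeff 1 a := by
  simp only [lam, LinearMap.comp_apply, LinearEquiv.coe_coe, coords_symm]
  rfl

lemma μ_x_sq_mul (r : ℕ) (w : ArSing.ring k r) : μ k r (ArSing.x k r ^ 2 * w) = 0 := by
  obtain ⟨a, b, rfl⟩ := struct k r w
  rw [pow_two, mul_assoc, x_mul, x_mul, μ_apply]
  simp

lemma μ_xy_mul (r : ℕ) (w : ArSing.ring k r) :
    μ k r (ArSing.x k r * ArSing.y k r * w) = 0 := by
  obtain ⟨a, b, rfl⟩ := struct k r w
  rw [mul_assoc, y_mul, x_mul, μ_apply]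
  simp



lemma trivialRelation_of_flat {R S : Type*} [CommRing R] [CommRing S] (φ : R →+* S)
    (hflat : φ.Flat) (f : Fin 2 → R) (x : Fin 2 → S) (h : ∑ i, φ (f i) * x i = 0) :
    ∃ (κ : ℕ) (a : Fin 2 → Fin κ → R) (y : Fin κ → S),
      (∀ i, x i = ∑ j, φ (a i j) * y j) ∧ ∀ j, ∑ i, f i * a i j = 0 := by
  letI : Algebra R S := φ.toAlgebra
  have hfl : Module.Flat R S := hflat
  have hrel : ∑ i, f i • x i = 0 := by
    simp only [Algebra.smul_def, RingHom.algebraMap_toAlgebra]; exact h
  obtain ⟨κ, a, y, h1, h2⟩ := Module.Flat.isTrivialRelation_of_sum_smul_eq_zero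
    (R := R) (M := S) (f := f) (x := x) hrel
  refine ⟨κ, a, y, fun i => ?_, h2⟩
  rw [h1 i]
  simp only [Algebra.smul_def, RingHom.algebraMap_toAlgebra]

theorem main14095 (k : Type u) [Field k] [IsAlgClosed k] (m r : ℕ)
    (hm : 1 ≤ m) (hr : r = 2 * m - 1) (h2 : (2 : k) ≠ 0) (hr1 : ((r + 1 : ℕ) : k) ≠ 0)
    (σ : ArSing.ring k r ≃ₐ[k] ArSing.ring k r) (hx : σ (ArSing.x k r) = -ArSing.x k r)
    (hy : σ (ArSing.y k r) = -ArSing.y k r)
    (φ : ArSing.ring k m →ₐ[k] ArSing.ring k r) (hφx : φ (ArSing.x k m) = ArSing.x k r ^ 2)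
    (hφy : φ (ArSing.y k m) = ArSing.x k r * ArSing.y k r) :
    (∀ a : ArSing.ring k r, σ a = a ↔ a ∈ φ.range) ∧ Function.Injective φ ∧
    ¬ φ.toRingHom.Flat ∧
    Module.length (ArSing.ring k r) (ArSing.ring k r ⧸ Ideal.span (Set.range fun a : ArSing.ring k r => σ a - a)) = 1 ∧
    ¬ (∃ g : ArSing.ring k r, g ∈ nonZeroDivisors (ArSing.ring k r) ∧ Ideal.span (Set.range fun a : ArSing.ring k r => σ a - a) = Ideal.span {g}) := by
  have hr2 : 2 ≤ r + 1 := by omega
  have hσ : ∀ a b : PowerSeries k, σ (ArSing.xMap k r a + ArSing.xMap k r b * ArSing.y k r) =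
      ArSing.xMap k r (PowerSeries.rescale (-1 : k) a) +
        ArSing.xMap k r (-(PowerSeries.rescale (-1 : k) b)) * ArSing.y k r := by
    intro a b
    rw [map_add, map_mul, σ_xMap_neg σ hx, σ_xMap_neg σ hx, hy, map_neg]
    ring
  have hφ : ∀ a b : PowerSeries k,
      φ (ArSing.xMap k m a + ArSing.xMap k m b * ArSing.y k m) =
      ArSing.xMap k r (E2 a) + ArSing.xMap k r (PowerSeries.X * E2 b) * ArSing.y k r := by
    intro a b
    rw [map_add, map_mul, φ_xMap φ hφx, φ_xMap φ hφx, hφy, map_mul, xMap_X]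
    ring
  have hD : Ideal.span (Set.range fun a : ArSing.ring k r => σ a - a) = 𝔫 k r := by
    apply le_antisymm
    · rw [Ideal.span_le]
      rintro _ ⟨z, rfl⟩
      obtain ⟨a, b, rfl⟩ := struct k r z
      beta_reduce
      rw [hσ, SetLike.mem_coe]
      have : ArSing.xMap k r (PowerSeries.rescale (-1 : k) a) +
          ArSing.xMap k r (-(PowerSeries.rescale (-1 : k) b)) * ArSing.y k r -
          (ArSing.xMap k r a + ArSing.xMap k r b * ArSing.y k r) =
          ArSing.xMap k r (PowerSeries.rescale (-1 : k) a - a) +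
          ArSing.xMap k r (-(PowerSeries.rescale (-1 : k) b) - b) * ArSing.y k r := by
        simp only [map_sub, map_neg]; ring
      rw [this, mem_𝔫_iff, rescale_neg_sub]
      simp
    · have key : ∀ w : ArSing.ring k r, σ w = -w →
          w ∈ Ideal.span (Set.range fun a : ArSing.ring k r => σ a - a) := by
        intro w hw
        have h1 : σ w - w ∈ Ideal.span (Set.range fun a : ArSing.ring k r => σ a - a) :=
          Ideal.subset_span ⟨_, rfl⟩
        have h3 : w = algebraMap k _ (-(2 : k)⁻¹) * (σ w - w) := by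
          rw [hw]
          have : (-w - w) = algebraMap k (ArSing.ring k r) (-2) * w := by
            simp only [map_neg, map_ofNat]
            ring
          rw [this, ← mul_assoc, ← map_mul]
          have : (-(2 : k)⁻¹) * (-2) = 1 := by field_simp
          rw [this, map_one, one_mul]
        rw [h3]
        exact Ideal.mul_mem_left _ _ h1
      rw [𝔫, Ideal.span_le]
      rintro _ (rfl | rfl)
      · exact key _ hx
      · exact key _ hy
  refine ⟨?_, ?_, ?_, ?_, ?_⟩
  · intro z
    constructor
    · intro hz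
      obtain ⟨a, b, rfl⟩ := struct k r z
      rw [hσ] at hz
      obtain ⟨ha, hb⟩ := struct_inj k r hz
      rw [rescale_neg_eq_self_iff h2] at ha
      rw [neg_rescale_eq_self_iff h2] at hb
      refine ⟨ArSing.xMap k m (ev a) + ArSing.xMap k m (od b) * ArSing.y k m, ?_⟩
      change φ _ = _
      rw [hφ, ← ha, ← hb]
    · rintro ⟨w, rfl⟩
      obtain ⟨c, d, rfl⟩ := struct k m w
      change σ (φ _) = φ _
      rw [hφ, hσ, rescale_neg_E2, rescale_neg_X_mul_E2, neg_neg]
  · rw [injective_iff_map_eq_zero]
    intro w hw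
    obtain ⟨c, d, rfl⟩ := struct k m w
    rw [hφ] at hw
    obtain ⟨h1, h3⟩ := struct_zero k r hw
    have e1 : c = 0 := (parity_unique (e := c) (o := 0) (by simpa using h1)).1
    have e2 : d = 0 := (parity_unique (e := 0) (o := d) (by simpa using h3)).2
    rw [e1, e2]; simp
  · -- not flat
    intro hflat
    have hsmul : ∀ (p : ArSing.ring k m) (z : ArSing.ring k r), φ.toRingHom p * z = φ p * z :=
      fun p z => rfl
    have hrel : ∑ i : Fin 2, φ.toRingHom (![ArSing.x k m, ArSing.y k m] i) *
        (![ArSing.y k r, -ArSing.x k r] i) = 0 := by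
      simp only [Fin.sum_univ_two, Matrix.cons_val_zero, Matrix.cons_val_one, hsmul, hφx, hφy]
      ring
    obtain ⟨κ, a, yv, h1, h3⟩ := trivialRelation_of_flat φ.toRingHom hflat _ _ hrel
    -- each `a 0 j` lies in the maximal ideal
    have ha : ∀ j, a 0 j ∈ 𝔫 k m := by
      intro j
      by_contra hj
      rw [𝔫_eq_maximalIdeal, IsLocalRing.mem_maximalIdeal, mem_nonunits_iff, not_not] at hj
      have h4 := h3 j
      simp only [Fin.sum_univ_two, Matrix.cons_val_zero, Matrix.cons_val_one] at h4
      obtain ⟨u, hu⟩ := hj.exists_left_inv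
      have h5 : ArSing.x k m = ArSing.y k m * (-(a 1 j) * u) := by
        have : ArSing.x k m * (u * a 0 j) + ArSing.y k m * a 1 j * u = 0 := by
          linear_combination u * h4
        rw [hu, mul_one] at this
        linear_combination this
      obtain ⟨c, d, hcd⟩ := struct k m (-(a 1 j) * u)
      rw [hcd, y_mul] at h5
      have h6 : ArSing.x k m = ArSing.xMap k m PowerSeries.X + ArSing.xMap k m 0 * ArSing.y k m := by
        rw [xMap_X]; simp
      rw [h6] at h5
      obtain ⟨h7, -⟩ := struct_inj k m h5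
      have h8 := congrArg (PowerSeries.coeff 1) h7
      rw [PowerSeries.coeff_one_X, PowerSeries.coeff_mul_X_pow', if_neg (by omega)] at h8
      exact one_ne_zero h8
    have hμ : ∀ (n : ArSing.ring k m), n ∈ 𝔫 k m → ∀ w : ArSing.ring k r, μ k r (φ n * w) = 0 := by
      intro n hn w
      rw [𝔫, Ideal.mem_span_pair] at hn
      obtain ⟨p, q, rfl⟩ := hn
      have hφn : φ (p * ArSing.x k m + q * ArSing.y k m) =
          φ p * ArSing.x k r ^ 2 + φ q * (ArSing.x k r * ArSing.y k r) := by
        rw [map_add, map_mul, map_mul, hφx, hφy]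
      rw [hφn, add_mul, map_add]
      rw [show φ p * ArSing.x k r ^ 2 * w = ArSing.x k r ^ 2 * (φ p * w) by ring,
        show φ q * (ArSing.x k r * ArSing.y k r) * w = ArSing.x k r * ArSing.y k r * (φ q * w) by ring,
        μ_x_sq_mul, μ_xy_mul, add_zero]
    have h9 := h1 0
    simp only [Matrix.cons_val_zero] at h9
    have h10 := congrArg (μ k r) h9
    rw [map_sum] at h10
    have h11 : ∀ j, μ k r (φ.toRingHom (a 0 j) * yv j) = 0 := fun j => by
      rw [hsmul]; exact hμ _ (ha j) _
    simp only [h11, Finset.sum_const_zero] at h10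
    have h12 : μ k r (ArSing.y k r) = 1 := by
      have : ArSing.y k r = ArSing.xMap k r 0 + ArSing.xMap k r 1 * ArSing.y k r := by simp
      rw [this, μ_apply]; simp
    rw [h12] at h10
    exact one_ne_zero h10
  · rw [hD]
    have := length_quot_eq k r (𝔫 k r) 1
      ((LinearMap.pi ![(PowerSeries.coeff (R := k) 0).comp
        (LinearMap.fst k (PowerSeries k) (PowerSeries k))]).comp (coords k r).symm.toLinearMap)
      (by
        intro v
        refine ⟨ArSing.xMap k r (PowerSeries.C (v 0)) + ArSing.xMap k r 0 * ArSing.y k r, ?_⟩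
        simp only [LinearMap.comp_apply, LinearEquiv.coe_coe, coords_symm]
        funext i
        fin_cases i
        simp)
      (by
        intro z
        obtain ⟨a, b, rfl⟩ := struct k r z
        simp only [LinearMap.comp_apply, LinearEquiv.coe_coe, coords_symm]
        rw [mem_𝔫_iff]
        constructor
        · intro h
          have := congrFun h 0
          simpa using this
        · intro h
          funext i
          fin_cases i
          simpa using h)
    rw [this]
    rfl
  · rintro ⟨g, -, hg⟩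
    rw [hD] at hg
    have hgn : g ∈ 𝔫 k r := hg ▸ Ideal.mem_span_singleton_self g
    obtain ⟨p, q, rfl⟩ := struct k r g
    rw [mem_𝔫_iff] at hgn
    have hmul : ∀ w : ArSing.ring k r,
        lam k r ((ArSing.xMap k r p + ArSing.xMap k r q * ArSing.y k r) * w) =
          PowerSeries.coeff 1 p * aug k r w ∧
        μ k r ((ArSing.xMap k r p + ArSing.xMap k r q * ArSing.y k r) * w) =
          PowerSeries.coeff 0 q * aug k r w := by
      intro w
      obtain ⟨c, d, rfl⟩ := struct k r w
      rw [mul_formula, lam_apply, μ_apply, aug_coords]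
      constructor
      · rw [map_add, PowerSeries.coeff_mul_X_pow', if_neg (by omega), add_zero,
          PowerSeries.coeff_mul]
        rw [Finset.Nat.antidiagonal_succ, Finset.sum_cons]
        simp only [Finset.Nat.antidiagonal_zero, Finset.map_singleton, Finset.sum_singleton,
          Function.Embedding.coe_prodMap, Function.Embedding.coeFn_mk, Prod.map]
        rw [PowerSeries.coeff_zero_eq_constantCoeff_apply, hgn]
        simp
      · simp only [map_add, PowerSeries.coeff_zero_eq_constantCoeff_apply, map_mul, hgn, zero_mul,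
          zero_add]
    have hxm : ArSing.x k r ∈ Ideal.span {ArSing.xMap k r p + ArSing.xMap k r q * ArSing.y k r} :=
      hg ▸ x_mem k r
    have hym : ArSing.y k r ∈ Ideal.span {ArSing.xMap k r p + ArSing.xMap k r q * ArSing.y k r} :=
      hg ▸ y_mem k r
    rw [Ideal.mem_span_singleton] at hxm hym
    obtain ⟨u, hu⟩ := hxm
    obtain ⟨v, hv⟩ := hym
    have hx1 : lam k r (ArSing.x k r) = 1 := by
      have : ArSing.x k r = ArSing.xMap k r PowerSeries.X + ArSing.xMap k r 0 * ArSing.y k r := by
        rw [xMap_X]; simp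
      rw [this, lam_apply]; simp
    have hx2 : μ k r (ArSing.x k r) = 0 := by
      have : ArSing.x k r = ArSing.xMap k r PowerSeries.X + ArSing.xMap k r 0 * ArSing.y k r := by
        rw [xMap_X]; simp
      rw [this, μ_apply]; simp
    have hy2 : μ k r (ArSing.y k r) = 1 := by
      have : ArSing.y k r = ArSing.xMap k r 0 + ArSing.xMap k r 1 * ArSing.y k r := by simp
      rw [this, μ_apply]; simp
    have e1 := (hmul u).1
    have e2 := (hmul u).2
    have e4 := (hmul v).2
    rw [← hu] at e1 e2
    rw [← hv] at e4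
    rw [hx1] at e1
    rw [hx2] at e2
    rw [hy2] at e4
    -- 1 = p₁ α, 0 = q₀ α, 1 = q₀ β
    have hα : aug k r u ≠ 0 := by
      intro h; rw [h, mul_zero] at e1; exact one_ne_zero e1
    have hq : PowerSeries.coeff 0 q = 0 := by
      rcases mul_eq_zero.mp e2.symm with h | h
      · exact h
      · exact absurd h hα
    rw [hq, zero_mul] at e4
    exact one_ne_zero e4

end H5ArSing
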