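import Groth.Agent.Lib.Helper5.ArSing.Tools

set_option autoImplicit false
universe u

namespace H5ArSing

open MvPowerSeries

variable {k : Type u} [Field k] {r : ℕ}

/-- the first `n` coefficients -/
noncomputable def coeffsL (k : Type u) [Field k] (n : ℕ) : PowerSeries k →ₗ[k] (Fin n → k) :=
  LinearMap.pi fun i => PowerSeries.coeff (R := k) (i : ℕ)

lemma coeffsL_apply (n : ℕ) (a : PowerSeries k) (i : Fin n) :
    coeffsL k n a i = PowerSeries.coeff (i : ℕ) a := rfl

lemma coeffsL_surjective (n : ℕ) : Function.Surjective (coeffsL k n) := by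
  intro v
  refine ⟨PowerSeries.mk fun i => if h : i < n then v ⟨i, h⟩ else 0, ?_⟩
  funext i
  simp [coeffsL_apply]

lemma coeffsL_eq_zero_iff (n : ℕ) (a : PowerSeries k) :
    coeffsL k n a = 0 ↔ PowerSeries.X ^ n ∣ a := by
  rw [PowerSeries.X_pow_dvd_iff]
  constructor
  · intro h m hm
    have := congrFun h ⟨m, hm⟩
    simpa [coeffsL_apply] using this
  · intro h
    funext i
    simpa [coeffsL_apply] using h i i.2

lemma y_mul (k : Type u) [Field k] (r : ℕ) (a b : PowerSeries k) :
    ArSing.y k r * (ArSing.xMap k r a + ArSing.xMap k r b * ArSing.y k r) =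
      ArSing.xMap k r (b * PowerSeries.X ^ (r + 1)) + ArSing.xMap k r a * ArSing.y k r := by
  have := mul_formula k r a b 0 1
  rw [mul_comm]
  simpa using this

theorem main14093 (k : Type u) [Field k] [IsAlgClosed k] (r : ℕ)
    (h2 : (2 : k) ≠ 0) (hr : ((r + 1 : ℕ) : k) ≠ 0)
    (σ : ArSing.ring k r ≃ₐ[k] ArSing.ring k r) (hx : σ (ArSing.x k r) = ArSing.x k r)
    (hy : σ (ArSing.y k r) = -ArSing.y k r) :
    (∀ a : ArSing.ring k r, σ a = a ↔ a ∈ (ArSing.xMap k r).range) ∧
    ((ArSing.xMap k r).toRingHom.Flat ∧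
      Ideal.map (ArSing.xMap k r) (IsLocalRing.maximalIdeal (PowerSeries k)) ≠ ⊤) ∧
    (∃ g : ArSing.ring k r, g ∈ nonZeroDivisors (ArSing.ring k r) ∧
      Ideal.span (Set.range fun a : ArSing.ring k r => σ a - a) = Ideal.span {g}) ∧
    Module.length (ArSing.ring k r)
      (ArSing.ring k r ⧸ Ideal.span (Set.range fun a : ArSing.ring k r => σ a - a)) = r + 1 := by
  have hD : Ideal.span (Set.range fun a : ArSing.ring k r => σ a - a) = Ideal.span {ArSing.y k r} := by
    apply le_antisymm
    · rw [Ideal.span_le]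
      rintro _ ⟨z, rfl⟩
      obtain ⟨a, b, rfl⟩ := struct k r z
      beta_reduce
      rw [σ_apply σ hx hy, SetLike.mem_coe, Ideal.mem_span_singleton]
      refine ⟨ArSing.xMap k r (-b - b), ?_⟩
      simp only [map_neg, map_sub]
      ring
    · rw [Ideal.span_le, Set.singleton_subset_iff, SetLike.mem_coe]
      have h1 : σ (ArSing.y k r) - ArSing.y k r ∈
          Ideal.span (Set.range fun a : ArSing.ring k r => σ a - a) :=
        Ideal.subset_span ⟨_, rfl⟩
      have h3 : ArSing.y k r = algebraMap k _ (-(2 : k)⁻¹) * (σ (ArSing.y k r) - ArSing.y k r) := by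
        rw [hy]
        have : (-ArSing.y k r - ArSing.y k r) = algebraMap k (ArSing.ring k r) (-2) * ArSing.y k r := by
          simp only [map_neg, map_ofNat]
          ring
        rw [this, ← mul_assoc, ← map_mul]
        have : (-(2 : k)⁻¹) * (-2) = 1 := by field_simp
        rw [this, map_one, one_mul]
      rw [h3]
      exact Ideal.mul_mem_left _ _ h1
  refine ⟨?_, ⟨xMap_flat k r, map_maximalIdeal_ne_top k r⟩, ⟨ArSing.y k r, y_mem_nzd k r, hD⟩, ?_⟩
  · intro z
    constructor
    · intro hz
      obtain ⟨a, b, rfl⟩ := struct k r z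
      rw [σ_apply σ hx hy] at hz
      obtain ⟨-, hb⟩ := struct_inj k r hz
      have hb0 := eq_zero_of_neg_eq h2 hb
      exact ⟨a, by simp [hb0]⟩
    · rintro ⟨a, rfl⟩
      exact σ_xMap σ hx a
  · rw [hD]
    have := length_quot_eq k r (Ideal.span {ArSing.y k r}) (r + 1)
      ((coeffsL k (r + 1)).comp ((LinearMap.fst k (PowerSeries k) (PowerSeries k)).comp
        (coords k r).symm.toLinearMap))
      ((coeffsL_surjective (r + 1)).comp
        ((LinearMap.fst_surjective (R := k) (M := PowerSeries k) (M₂ := PowerSeries k)).comp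
          (coords k r).symm.surjective))
      (by
        intro z
        obtain ⟨a, b, rfl⟩ := struct k r z
        simp only [LinearMap.comp_apply, LinearEquiv.coe_coe, coords_symm, LinearMap.fst_apply]
        rw [coeffsL_eq_zero_iff, Ideal.mem_span_singleton]
        constructor
        · rintro ⟨d, rfl⟩
          refine ⟨ArSing.xMap k r b + ArSing.xMap k r d * ArSing.y k r, ?_⟩
          rw [y_mul]
          ring_nf
        · rintro ⟨w, hw⟩
          obtain ⟨c, d, rfl⟩ := struct k r w
          rw [y_mul] at hw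
          obtain ⟨ha, -⟩ := struct_inj k r hw
          rw [ha]
          exact ⟨d, by ring⟩)
    rw [this]
    push_cast
    rfl

end H5ArSing
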