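import Groth.Agent.Lib.Helper5.ArSing.NegXY

set_option autoImplicit false
universe u

namespace H5ArSing

open MvPowerSeries

variable (k : Type u) [Field k]

/-- `(X) ⊂ k⟦X⟧` is separated -/
lemma sep_P : ⨅ n, (Ideal.span {(PowerSeries.X : PowerSeries k)}) ^ n = ⊥ := by
  rw [← PowerSeries.maximalIdeal_eq_span_X]
  exact Ideal.iInf_pow_eq_bot_of_isLocalRing _ Ideal.IsPrime.ne_top'

lemma hasSubst_pm (c : k) :
    HasSubst (![(PowerSeries.X : PowerSeries k), PowerSeries.C c * PowerSeries.X] :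
      Fin 2 → MvPowerSeries Unit k) := by
  apply hasSubst_of_constantCoeff_zero
  intro s
  fin_cases s
  · exact PowerSeries.constantCoeff_X
  · change PowerSeries.constantCoeff (PowerSeries.C c * PowerSeries.X) = 0
    simp

/-- the branch map `x ↦ X, y ↦ cX` for `c² = 1` on the node -/
noncomputable def branch (c : k) (hc : c ^ 2 = 1) : ArSing.ring k 1 →ₐ[k] PowerSeries k :=
  Ideal.Quotient.liftₐ _ (substAlgHom (R := k) (hasSubst_pm k c)) (by
    intro a ha
    rw [Ideal.mem_span_singleton] at ha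
    obtain ⟨d, rfl⟩ := ha
    rw [map_mul]
    have : substAlgHom (R := k) (hasSubst_pm k c) (ArSing.eqn k 1) = 0 := by
      simp only [ArSing.eqn, map_sub, map_pow, substAlgHom_X]
      simp only [Matrix.cons_val_zero, Matrix.cons_val_one]
      rw [mul_pow, ← map_pow, hc, map_one, one_mul]
      ring
    rw [this, zero_mul])

lemma branch_x (c : k) (hc : c ^ 2 = 1) : branch k c hc (ArSing.x k 1) = PowerSeries.X := by
  change substAlgHom (R := k) (hasSubst_pm k c) (X 0) = _
  rw [substAlgHom_X]; rfl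

lemma branch_y (c : k) (hc : c ^ 2 = 1) :
    branch k c hc (ArSing.y k 1) = PowerSeries.C c * PowerSeries.X := by
  change substAlgHom (R := k) (hasSubst_pm k c) (X 1) = _
  rw [substAlgHom_X]; rfl

lemma branch_xMap (c : k) (hc : c ^ 2 = 1) (a : PowerSeries k) :
    branch k c hc (ArSing.xMap k 1 a) = a := by
  have : (branch k c hc).comp (ArSing.xMap k 1) = AlgHom.id k (PowerSeries k) := by
    apply ext_P (Ideal.span {(PowerSeries.X : PowerSeries k)}) (sep_P k)
    · rw [AlgHom.comp_apply, xMap_X, branch_x]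
      exact Ideal.mem_span_singleton_self _
    · rw [AlgHom.comp_apply, xMap_X, branch_x]; rfl
  exact DFunLike.congr_fun this a

lemma branch_apply (c : k) (hc : c ^ 2 = 1) (a b : PowerSeries k) :
    branch k c hc (ArSing.xMap k 1 a + ArSing.xMap k 1 b * ArSing.y k 1) =
      a + PowerSeries.C c * PowerSeries.X * b := by
  rw [map_add, map_mul, branch_xMap, branch_xMap, branch_y]
  ring

/-- first branch `y = x` -/
noncomputable def β₁ : ArSing.ring k 1 →ₐ[k] PowerSeries k := branch k 1 (by norm_num)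
/-- second branch `y = -x` -/
noncomputable def β₂ : ArSing.ring k 1 →ₐ[k] PowerSeries k := branch k (-1) (by norm_num)

lemma β₁_apply (a b : PowerSeries k) :
    β₁ k (ArSing.xMap k 1 a + ArSing.xMap k 1 b * ArSing.y k 1) = a + PowerSeries.X * b := by
  rw [β₁, branch_apply]; simp

lemma β₂_apply (a b : PowerSeries k) :
    β₂ k (ArSing.xMap k 1 a + ArSing.xMap k 1 b * ArSing.y k 1) = a - PowerSeries.X * b := by
  rw [β₂, branch_apply]; simp; ring

lemma β₁_x : β₁ k (ArSing.x k 1) = PowerSeries.X := branch_x k _ _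
lemma β₁_y : β₁ k (ArSing.y k 1) = PowerSeries.X := by rw [β₁, branch_y]; simp
lemma β₂_x : β₂ k (ArSing.x k 1) = PowerSeries.X := branch_x k _ _
lemma β₂_y : β₂ k (ArSing.y k 1) = -PowerSeries.X := by rw [β₂, branch_y]; simp



section fibre

variable {k}

lemma β_ext (h2 : (2 : k) ≠ 0) {z w : ArSing.ring k 1} (h1 : β₁ k z = β₁ k w)
    (h3 : β₂ k z = β₂ k w) : z = w := by
  obtain ⟨a, b, rfl⟩ := struct k 1 z
  obtain ⟨c, d, rfl⟩ := struct k 1 w
  rw [β₁_apply, β₁_apply] at h1
  rw [β₂_apply, β₂_apply] at h3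
  have h2P := two_ne_zero_P h2
  have ha : a = c := by
    have : (2 : PowerSeries k) * (a - c) = 0 := by linear_combination h1 + h3
    exact sub_eq_zero.mp ((mul_eq_zero.mp this).resolve_left h2P)
  have hb : b = d := by
    have : (2 : PowerSeries k) * (PowerSeries.X * (b - d)) = 0 := by linear_combination h1 - h3
    have h4 := (mul_eq_zero.mp this).resolve_left h2P
    exact sub_eq_zero.mp ((mul_eq_zero.mp h4).resolve_left PowerSeries.X_ne_zero)
  rw [ha, hb]

lemma β_surj (h2 : (2 : k) ≠ 0) (F G : PowerSeries k)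
    (h : PowerSeries.constantCoeff F = PowerSeries.constantCoeff G) :
    ∃ z : ArSing.ring k 1, β₁ k z = F ∧ β₂ k z = G := by
  have h0 : PowerSeries.constantCoeff (F - G) = 0 := by rw [map_sub, h, sub_self]
  rw [← PowerSeries.X_dvd_iff] at h0
  obtain ⟨d, hd⟩ := h0
  have hC : PowerSeries.C (2⁻¹ : k) * 2 = 1 := by
    have : (2 : PowerSeries k) = PowerSeries.C (2 : k) := (map_ofNat PowerSeries.C 2).symm
    rw [this, ← map_mul, inv_mul_cancel₀ h2, map_one]
  refine ⟨ArSing.xMap k 1 (PowerSeries.C (2⁻¹ : k) * (F + G)) +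
    ArSing.xMap k 1 (PowerSeries.C (2⁻¹ : k) * d) * ArSing.y k 1, ?_, ?_⟩
  · rw [β₁_apply]
    have : PowerSeries.X * (PowerSeries.C (2⁻¹ : k) * d) = PowerSeries.C (2⁻¹ : k) * (F - G) := by
      rw [hd]; ring
    rw [this]
    linear_combination F * hC
  · rw [β₂_apply]
    have : PowerSeries.X * (PowerSeries.C (2⁻¹ : k) * d) = PowerSeries.C (2⁻¹ : k) * (F - G) := by
      rw [hd]; ring
    rw [this]
    linear_combination G * hC

end fibre

end H5ArSing
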