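import Groth.Agent.Lib.Helper5.ArSing.NodeSwap
import Groth.Agent.Lib.Helper5.CA2.PSInv

set_option autoImplicit false
universe u

namespace H5ArSing

open MvPowerSeries

variable {k : Type u} [Field k]

/-- algebra maps `A_1 → k⟦X⟧` send the maximal ideal into `(X)` -/
lemma cc_of_mem_𝔫 (f : ArSing.ring k 1 →ₐ[k] PowerSeries k) {n : ArSing.ring k 1}
    (hn : n ∈ 𝔫 k 1) : PowerSeries.constantCoeff (f n) = 0 := by
  by_contra hc
  set c := PowerSeries.constantCoeff (f n) with hcdef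
  -- `n - c` is a unit of `A_1`
  have hu : IsUnit (n - algebraMap k (ArSing.ring k 1) c) := by
    by_contra hnu
    have h1 : n - algebraMap k (ArSing.ring k 1) c ∈ IsLocalRing.maximalIdeal (ArSing.ring k 1) :=
      (IsLocalRing.mem_maximalIdeal _).mpr hnu
    rw [← 𝔫_eq_maximalIdeal] at h1
    have h3 : algebraMap k (ArSing.ring k 1) c ∈ 𝔫 k 1 := by
      have := sub_mem hn h1
      simpa using this
    have h4 := 𝔫_le_ker k 1 h3
    rw [RingHom.mem_ker] at h4
    have h5 : aug k 1 (algebraMap k (ArSing.ring k 1) c) = c := by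
      change constantCoeff (algebraMap k (MvPowerSeries (Fin 2) k) c) = c
      rw [MvPowerSeries.algebraMap_apply]
      simp
    rw [h5] at h4
    exact hc h4
  have hu' := hu.map f
  rw [map_sub, AlgHom.commutes] at hu'
  rw [PowerSeries.isUnit_iff_constantCoeff, map_sub] at hu'
  have : PowerSeries.constantCoeff (algebraMap k (PowerSeries k) c) = c := by
    rw [PowerSeries.algebraMap_apply]; simp
  rw [this, ← hcdef, sub_self] at hu'
  exact not_isUnit_zero hu'

lemma cc_algHom (f : ArSing.ring k 1 →ₐ[k] PowerSeries k) (z : ArSing.ring k 1) :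
    PowerSeries.constantCoeff (f z) = aug k 1 z := by
  obtain ⟨c, hc⟩ := exists_const_add k 1 z
  have h1 := cc_of_mem_𝔫 f hc
  have h2 := 𝔫_le_ker k 1 hc
  rw [RingHom.mem_ker, map_sub] at h2
  rw [map_sub, map_sub, AlgHom.commutes] at h1
  have h5 : aug k 1 (algebraMap k (ArSing.ring k 1) c) = c := by
    change constantCoeff (algebraMap k (MvPowerSeries (Fin 2) k) c) = c
    rw [MvPowerSeries.algebraMap_apply]
    simp
  have h6 : PowerSeries.constantCoeff (algebraMap k (PowerSeries k) c) = c := by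
    rw [PowerSeries.algebraMap_apply]; simp
  rw [h5] at h2
  rw [h6] at h1
  rw [sub_eq_zero.mp h1, sub_eq_zero.mp h2]



section pair

variable (h2 : (2 : k) ≠ 0)

/-- the element of `A_1` with prescribed branches -/
noncomputable def pairFun (f₁ f₂ : ArSing.ring k 1 →ₐ[k] PowerSeries k) (z : ArSing.ring k 1) :
    ArSing.ring k 1 :=
  (β_surj h2 (f₁ z) (f₂ z) (by rw [cc_algHom, cc_algHom])).choose

lemma β₁_pairFun (f₁ f₂ : ArSing.ring k 1 →ₐ[k] PowerSeries k) (z : ArSing.ring k 1) :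
    β₁ k (pairFun h2 f₁ f₂ z) = f₁ z :=
  (β_surj h2 (f₁ z) (f₂ z) (by rw [cc_algHom, cc_algHom])).choose_spec.1

lemma β₂_pairFun (f₁ f₂ : ArSing.ring k 1 →ₐ[k] PowerSeries k) (z : ArSing.ring k 1) :
    β₂ k (pairFun h2 f₁ f₂ z) = f₂ z :=
  (β_surj h2 (f₁ z) (f₂ z) (by rw [cc_algHom, cc_algHom])).choose_spec.2

/-- the endomorphism of the node with prescribed branch maps -/
noncomputable def homOfPair (f₁ f₂ : ArSing.ring k 1 →ₐ[k] PowerSeries k) :
    ArSing.ring k 1 →ₐ[k] ArSing.ring k 1 :=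
  AlgHom.ofLinearMap
    { toFun := pairFun h2 f₁ f₂
      map_add' := fun z w => by
        apply β_ext h2
        · rw [map_add, β₁_pairFun, β₁_pairFun, β₁_pairFun, map_add]
        · rw [map_add, β₂_pairFun, β₂_pairFun, β₂_pairFun, map_add]
      map_smul' := fun c z => by
        apply β_ext h2
        · rw [RingHom.id_apply, map_smul, β₁_pairFun, β₁_pairFun, map_smul]
        · rw [RingHom.id_apply, map_smul, β₂_pairFun, β₂_pairFun, map_smul] }
    (by
      apply β_ext h2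
      · change β₁ k (pairFun h2 f₁ f₂ 1) = _
        rw [β₁_pairFun, map_one, map_one]
      · change β₂ k (pairFun h2 f₁ f₂ 1) = _
        rw [β₂_pairFun, map_one, map_one])
    (fun z w => by
      apply β_ext h2
      · change β₁ k (pairFun h2 f₁ f₂ (z * w)) = β₁ k (pairFun h2 f₁ f₂ z * pairFun h2 f₁ f₂ w)
        rw [map_mul, β₁_pairFun, β₁_pairFun, β₁_pairFun, map_mul]
      · change β₂ k (pairFun h2 f₁ f₂ (z * w)) = β₂ k (pairFun h2 f₁ f₂ z * pairFun h2 f₁ f₂ w)
        rw [map_mul, β₂_pairFun, β₂_pairFun, β₂_pairFun, map_mul])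

lemma β₁_homOfPair (f₁ f₂ : ArSing.ring k 1 →ₐ[k] PowerSeries k) (z : ArSing.ring k 1) :
    β₁ k (homOfPair h2 f₁ f₂ z) = f₁ z := β₁_pairFun h2 f₁ f₂ z

lemma β₂_homOfPair (f₁ f₂ : ArSing.ring k 1 →ₐ[k] PowerSeries k) (z : ArSing.ring k 1) :
    β₂ k (homOfPair h2 f₁ f₂ z) = f₂ z := β₂_pairFun h2 f₁ f₂ z

/-- automorphism of the node from branch data -/
noncomputable def equivOfPair (f₁ f₂ g₁ g₂ : ArSing.ring k 1 →ₐ[k] PowerSeries k)
    (h11 : ∀ z, f₁ (homOfPair h2 g₁ g₂ z) = β₁ k z) (h12 : ∀ z, f₂ (homOfPair h2 g₁ g₂ z) = β₂ k z)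
    (h21 : ∀ z, g₁ (homOfPair h2 f₁ f₂ z) = β₁ k z) (h22 : ∀ z, g₂ (homOfPair h2 f₁ f₂ z) = β₂ k z) :
    ArSing.ring k 1 ≃ₐ[k] ArSing.ring k 1 :=
  AlgEquiv.ofAlgHom (homOfPair h2 f₁ f₂) (homOfPair h2 g₁ g₂)
    (by
      ext z
      apply β_ext h2
      · rw [AlgHom.comp_apply, β₁_homOfPair, h11]; rfl
      · rw [AlgHom.comp_apply, β₂_homOfPair, h12]; rfl)
    (by
      ext z
      apply β_ext h2
      · rw [AlgHom.comp_apply, β₁_homOfPair, h21]; rfl
      · rw [AlgHom.comp_apply, β₂_homOfPair, h22]; rfl)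

end pair

end H5ArSing
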