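import Groth.Agent.Lib.Helper5.ArSing.Node

set_option autoImplicit false
universe u

namespace H5ArSing

open MvPowerSeries

variable {k : Type u} [Field k]

/-- rescaling as an algebra hom -/
noncomputable def resc (c : k) : PowerSeries k →ₐ[k] PowerSeries k := PowerSeries.rescaleAlgHom c

lemma resc_apply (c : k) (f : PowerSeries k) : resc c f = PowerSeries.rescale c f := by
  have h := PowerSeries.coe_rescaleAlgHom c
  rw [resc, ← h]; rfl

lemma resc_X (c : k) : resc c PowerSeries.X = PowerSeries.C c * PowerSeries.X := by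
  rw [resc_apply, PowerSeries.rescale_X]

lemma cc_β (z : ArSing.ring k 1) :
    PowerSeries.constantCoeff (β₁ k z) = PowerSeries.constantCoeff (β₂ k z) := by
  obtain ⟨a, b, rfl⟩ := struct k 1 z
  rw [β₁_apply, β₂_apply]; simp

section swap

variable (σ : ArSing.ring k 1 ≃ₐ[k] ArSing.ring k 1) (hx : σ (ArSing.x k 1) = ArSing.y k 1)
  (hy : σ (ArSing.y k 1) = ArSing.x k 1)

include hx hy in
lemma β₁_σ (z : ArSing.ring k 1) : β₁ k (σ z) = β₁ k z := by
  have : (β₁ k).comp (σ : ArSing.ring k 1 →ₐ[k] ArSing.ring k 1) = β₁ k := by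
    apply ext_A k 1 (Ideal.span {(PowerSeries.X : PowerSeries k)}) (sep_P k)
    · change β₁ k (σ _) ∈ _
      rw [hx, β₁_y]; exact Ideal.mem_span_singleton_self _
    · change β₁ k (σ _) ∈ _
      rw [hy, β₁_x]; exact Ideal.mem_span_singleton_self _
    · change β₁ k (σ _) = _
      rw [hx, β₁_y, β₁_x]
    · change β₁ k (σ _) = _
      rw [hy, β₁_y, β₁_x]
  exact DFunLike.congr_fun this z

include hx hy in
lemma β₂_σ (z : ArSing.ring k 1) : β₂ k (σ z) = PowerSeries.rescale (-1 : k) (β₂ k z) := by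
  have : (β₂ k).comp (σ : ArSing.ring k 1 →ₐ[k] ArSing.ring k 1) = (resc (-1 : k)).comp (β₂ k) := by
    apply ext_A k 1 (Ideal.span {(PowerSeries.X : PowerSeries k)}) (sep_P k)
    · change β₂ k (σ _) ∈ _
      rw [hx, β₂_y]; exact neg_mem (Ideal.mem_span_singleton_self _)
    · change β₂ k (σ _) ∈ _
      rw [hy, β₂_x]; exact Ideal.mem_span_singleton_self _
    · change β₂ k (σ _) = resc (-1 : k) (β₂ k _)
      rw [hx, β₂_y, β₂_x, resc_X]; simp
    · change β₂ k (σ _) = resc (-1 : k) (β₂ k _)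
      rw [hy, β₂_y, β₂_x, map_neg (resc (-1 : k)), resc_X]; simp
  have h := DFunLike.congr_fun this z
  rw [AlgHom.comp_apply, AlgHom.comp_apply, resc_apply] at h
  exact h

end swap

section phi

variable (h2 : (2 : k) ≠ 0) (φ : ArSing.ring k 1 →ₐ[k] ArSing.ring k 1)
  (hφu : φ (ArSing.x k 1 + ArSing.y k 1) = ArSing.x k 1 + ArSing.y k 1)
  (hφv : φ (ArSing.y k 1 - ArSing.x k 1) = (ArSing.y k 1 - ArSing.x k 1) ^ 2)

/-- `t ↦ -2t²` -/
noncomputable def S2 : PowerSeries k →ₐ[k] PowerSeries k := E2.comp (resc (-2 : k))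

lemma S2_apply (f : PowerSeries k) : S2 f = E2 (PowerSeries.rescale (-2 : k) f) := by
  rw [S2, AlgHom.comp_apply, resc_apply]

lemma S2_X : S2 (PowerSeries.X : PowerSeries k) = PowerSeries.C (-2 : k) * PowerSeries.X ^ 2 := by
  rw [S2_apply, PowerSeries.rescale_X, map_mul, PowerSeries.expand_C, PowerSeries.expand_X]

include h2 hφu hφv in
lemma φ_xy : (2 : ArSing.ring k 1) * φ (ArSing.x k 1) =
      (ArSing.x k 1 + ArSing.y k 1) - (ArSing.y k 1 - ArSing.x k 1) ^ 2 ∧
    (2 : ArSing.ring k 1) * φ (ArSing.y k 1) =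
      (ArSing.x k 1 + ArSing.y k 1) + (ArSing.y k 1 - ArSing.x k 1) ^ 2 := by
  rw [map_add] at hφu
  rw [map_sub] at hφv
  constructor
  · linear_combination hφu - hφv
  · linear_combination hφu + hφv

lemma two_cancel (h2 : (2 : k) ≠ 0) {f g : PowerSeries k} (h : (2 : PowerSeries k) * f = 2 * g) :
    f = g :=
  mul_left_cancel₀ (two_ne_zero_P h2) h

include h2 hφu hφv in
lemma β₁_φ (z : ArSing.ring k 1) : β₁ k (φ z) = β₁ k z := by
  obtain ⟨e1, e2⟩ := φ_xy h2 φ hφu hφv
  have hx : β₁ k (φ (ArSing.x k 1)) = PowerSeries.X := by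
    apply two_cancel h2
    have := congrArg (β₁ k) e1
    simp only [map_mul, map_add, map_sub, map_pow, β₁_x, β₁_y, map_ofNat] at this
    rw [this]; ring
  have hy : β₁ k (φ (ArSing.y k 1)) = PowerSeries.X := by
    apply two_cancel h2
    have := congrArg (β₁ k) e2
    simp only [map_mul, map_add, map_sub, map_pow, β₁_x, β₁_y, map_ofNat] at this
    rw [this]; ring
  have : (β₁ k).comp φ = β₁ k := by
    apply ext_A k 1 (Ideal.span {(PowerSeries.X : PowerSeries k)}) (sep_P k)
    · change β₁ k (φ _) ∈ _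
      rw [hx]; exact Ideal.mem_span_singleton_self _
    · change β₁ k (φ _) ∈ _
      rw [hy]; exact Ideal.mem_span_singleton_self _
    · change β₁ k (φ _) = _
      rw [hx, β₁_x]
    · change β₁ k (φ _) = _
      rw [hy, β₁_y]
  exact DFunLike.congr_fun this z

include h2 hφu hφv in
lemma β₂_φ (z : ArSing.ring k 1) : β₂ k (φ z) = S2 (β₂ k z) := by
  obtain ⟨e1, e2⟩ := φ_xy h2 φ hφu hφv
  have hx : β₂ k (φ (ArSing.x k 1)) = PowerSeries.C (-2 : k) * PowerSeries.X ^ 2 := by
    apply two_cancel h2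
    have := congrArg (β₂ k) e1
    simp only [map_mul, map_add, map_sub, map_pow, β₂_x, β₂_y, map_ofNat] at this
    rw [this]
    simp only [map_neg, map_ofNat]; ring
  have hy : β₂ k (φ (ArSing.y k 1)) = -(PowerSeries.C (-2 : k) * PowerSeries.X ^ 2) := by
    apply two_cancel h2
    have := congrArg (β₂ k) e2
    simp only [map_mul, map_add, map_sub, map_pow, β₂_x, β₂_y, map_ofNat] at this
    rw [this]
    simp only [map_neg, map_ofNat]; ring
  have hmem : PowerSeries.C (-2 : k) * PowerSeries.X ^ 2 ∈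
      Ideal.span {(PowerSeries.X : PowerSeries k)} := by
    rw [Ideal.mem_span_singleton]
    exact Dvd.dvd.mul_left (dvd_pow_self _ two_ne_zero) _
  have : (β₂ k).comp φ = S2.comp (β₂ k) := by
    apply ext_A k 1 (Ideal.span {(PowerSeries.X : PowerSeries k)}) (sep_P k)
    · change β₂ k (φ _) ∈ _
      rw [hx]; exact hmem
    · change β₂ k (φ _) ∈ _
      rw [hy]; exact neg_mem hmem
    · change β₂ k (φ _) = S2 (β₂ k _)
      rw [hx, β₂_x, S2_X]
    · change β₂ k (φ _) = S2 (β₂ k _)
      rw [hy, β₂_y, map_neg S2, S2_X]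
  exact DFunLike.congr_fun this z

end phi



section main96

lemma E2_injective : Function.Injective (E2 : PowerSeries k →ₐ[k] PowerSeries k) := by
  rw [injective_iff_map_eq_zero]
  intro a ha
  exact (parity_unique (e := a) (o := 0) (by simpa using ha)).1

lemma rescale_rescale' (a b : k) (f : PowerSeries k) :
    PowerSeries.rescale a (PowerSeries.rescale b f) = PowerSeries.rescale (b * a) f := by
  ext n
  simp only [PowerSeries.coeff_rescale, mul_pow]
  ring

lemma S2_injective (h2 : (2 : k) ≠ 0) : Function.Injective (S2 : PowerSeries k →ₐ[k] PowerSeries k) := by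
  intro f g h
  rw [S2_apply, S2_apply] at h
  have h1 := E2_injective h
  have h3 := congrArg (PowerSeries.rescale (-(2 : k)⁻¹)) h1
  rw [rescale_rescale', rescale_rescale'] at h3
  have : (-2 : k) * (-(2 : k)⁻¹) = 1 := by field_simp
  rw [this, PowerSeries.rescale_one] at h3
  exact h3

lemma S2_rescale (h2 : (2 : k) ≠ 0) (f : PowerSeries k) :
    S2 (PowerSeries.rescale (-(2 : k)⁻¹) f) = E2 f := by
  rw [S2_apply, rescale_rescale']
  have : (-(2 : k)⁻¹) * (-2 : k) = 1 := by field_simp
  rw [this, PowerSeries.rescale_one]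
  rfl

theorem main14096 (k : Type u) [Field k] [IsAlgClosed k]
    (h2 : (2 : k) ≠ 0)
    (σ : ArSing.ring k 1 ≃ₐ[k] ArSing.ring k 1) (hx : σ (ArSing.x k 1) = ArSing.y k 1)
    (hy : σ (ArSing.y k 1) = ArSing.x k 1)
    (φ : ArSing.ring k 1 →ₐ[k] ArSing.ring k 1) (hφu : φ (ArSing.x k 1 + ArSing.y k 1) = ArSing.x k 1 + ArSing.y k 1)
    (hφv : φ (ArSing.y k 1 - ArSing.x k 1) = (ArSing.y k 1 - ArSing.x k 1) ^ 2) :
    (∀ a : ArSing.ring k 1, σ a = a ↔ a ∈ φ.range) ∧ Function.Injective φ ∧
    Ideal.span (Set.range fun a : ArSing.ring k 1 => σ a - a) = Ideal.span {ArSing.y k 1 - ArSing.x k 1} ∧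
    (ArSing.y k 1 - ArSing.x k 1) ∉ nonZeroDivisors (ArSing.ring k 1) ∧
    Ideal.span {ArSing.y k 1 - ArSing.x k 1} ∈ minimalPrimes (ArSing.ring k 1) ∧
    ¬ φ.toRingHom.Flat := by
  set u : ArSing.ring k 1 := ArSing.x k 1 + ArSing.y k 1 with hu
  set v : ArSing.ring k 1 := ArSing.y k 1 - ArSing.x k 1 with hv
  have b1σ := β₁_σ σ hx hy
  have b2σ := β₂_σ σ hx hy
  have b1φ := β₁_φ h2 φ hφu hφv
  have b2φ := β₂_φ h2 φ hφu hφv
  have b1u : β₁ k u = 2 * PowerSeries.X := by rw [hu, map_add, β₁_x, β₁_y]; ring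
  have b1v : β₁ k v = 0 := by rw [hv, map_sub, β₁_x, β₁_y]; ring
  have b2v : β₂ k v = -2 * PowerSeries.X := by rw [hv, map_sub, β₂_x, β₂_y]; ring
  have huv : u * v = 0 := by
    apply β_ext h2
    · rw [map_mul, b1v, mul_zero, map_zero]
    · rw [map_mul, hu, map_add, β₂_x, β₂_y]; simp
  have h2P := two_ne_zero_P h2
  have hu0 : u ≠ 0 := by
    intro h
    rw [h, map_zero] at b1u
    rcases mul_eq_zero.mp b1u.symm with h' | h'
    · exact h2P h'
    · exact PowerSeries.X_ne_zero h'
  -- elements with `β₁ = 0` are multiples of `v`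
  have hker : ∀ z : ArSing.ring k 1, β₁ k z = 0 → ∃ w, z = v * w := by
    intro z hz
    have hc : PowerSeries.constantCoeff (β₂ k z) = 0 := by rw [← cc_β, hz, map_zero]
    rw [← PowerSeries.X_dvd_iff] at hc
    obtain ⟨G₁, hG₁⟩ := hc
    obtain ⟨w, hw1, hw2⟩ := β_surj h2
      (PowerSeries.C (PowerSeries.constantCoeff (PowerSeries.C (-(2 : k)⁻¹) * G₁)))
      (PowerSeries.C (-(2 : k)⁻¹) * G₁) (by simp)
    refine ⟨w, ?_⟩
    apply β_ext h2
    · rw [map_mul, b1v, zero_mul, hz]
    · rw [map_mul, b2v, hw2, hG₁]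
      have : (-2 : PowerSeries k) * PowerSeries.C (-(2 : k)⁻¹) = 1 := by
        have e : (-2 : PowerSeries k) = PowerSeries.C (-2 : k) := by
          rw [map_neg, map_ofNat]
        rw [e, ← map_mul]
        have : (-2 : k) * (-(2 : k)⁻¹) = 1 := by field_simp
        rw [this, map_one]
      linear_combination (-(PowerSeries.X * G₁)) * this
  have hkerv : Ideal.span {v} = RingHom.ker (β₁ k) := by
    apply le_antisymm
    · rw [Ideal.span_le, Set.singleton_subset_iff, SetLike.mem_coe, RingHom.mem_ker, b1v]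
    · intro z hz
      obtain ⟨w, rfl⟩ := hker z hz
      exact Ideal.mul_mem_right _ _ (Ideal.mem_span_singleton_self v)
  refine ⟨?_, ?_, ?_, ?_, ?_, ?_⟩
  · -- fixed ring
    intro z
    constructor
    · intro hz
      have hG : PowerSeries.rescale (-1 : k) (β₂ k z) = β₂ k z := by rw [← b2σ, hz]
      rw [rescale_neg_eq_self_iff h2] at hG
      obtain ⟨w, hw1, hw2⟩ := β_surj h2 (β₁ k z)
        (PowerSeries.rescale (-(2 : k)⁻¹) (ev (β₂ k z))) (by
          rw [cc_β, ← PowerSeries.coeff_zero_eq_constantCoeff_apply,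
            ← PowerSeries.coeff_zero_eq_constantCoeff_apply, PowerSeries.coeff_rescale, pow_zero,
            one_mul]
          conv_lhs => rw [hG]
          rw [PowerSeries.coeff_zero_eq_constantCoeff_apply, PowerSeries.constantCoeff_expand,
            PowerSeries.coeff_zero_eq_constantCoeff_apply])
      refine ⟨w, ?_⟩
      change φ w = z
      apply β_ext h2
      · rw [b1φ, hw1]
      · rw [b2φ, hw2, S2_rescale h2, ← hG]
    · rintro ⟨w, rfl⟩
      change σ (φ w) = φ w
      apply β_ext h2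
      · rw [b1σ]
      · rw [b2σ, b2φ, S2_apply, rescale_neg_E2]
  · -- injective
    intro w w' h
    apply β_ext h2
    · rw [← b1φ w, ← b1φ w', h]
    · apply S2_injective h2
      rw [← b2φ, ← b2φ, h]
  · -- the ideal
    apply le_antisymm
    · rw [Ideal.span_le]
      rintro _ ⟨z, rfl⟩
      beta_reduce
      obtain ⟨w, hw⟩ := hker (σ z - z) (by rw [map_sub, b1σ, sub_self])
      rw [hw]
      exact Ideal.mul_mem_right _ _ (Ideal.mem_span_singleton_self v)
    · rw [Ideal.span_le, Set.singleton_subset_iff, SetLike.mem_coe]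
      have hσv : σ v = -v := by rw [hv, map_sub, hx, hy]; ring
      have h1 : σ v - v ∈ Ideal.span (Set.range fun a : ArSing.ring k 1 => σ a - a) :=
        Ideal.subset_span ⟨_, rfl⟩
      have h3 : v = algebraMap k _ (-(2 : k)⁻¹) * (σ v - v) := by
        rw [hσv]
        have : (-v - v) = algebraMap k (ArSing.ring k 1) (-2) * v := by
          simp only [map_neg, map_ofNat]
          ring
        rw [this, ← mul_assoc, ← map_mul]
        have : (-(2 : k)⁻¹) * (-2) = 1 := by field_simp
        rw [this, map_one, one_mul]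
      rw [h3]
      exact Ideal.mul_mem_left _ _ h1
  · -- zero divisor
    intro hnz
    rw [mem_nonZeroDivisors_iff_right] at hnz
    exact hu0 (hnz u huv)
  · -- minimal prime
    rw [hkerv]
    haveI : (RingHom.ker (β₁ k)).IsPrime := RingHom.ker_isPrime _
    refine ⟨⟨inferInstance, bot_le⟩, ?_⟩
    rintro q ⟨hq, -⟩ hle
    rw [← hkerv, Ideal.span_le, Set.singleton_subset_iff, SetLike.mem_coe]
    have : u * v ∈ q := by rw [huv]; exact zero_mem _
    rcases hq.mem_or_mem this with h | h
    · exfalso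
      have := hle h
      rw [RingHom.mem_ker, b1u] at this
      rcases mul_eq_zero.mp this with h' | h'
      · exact h2P h'
      · exact PowerSeries.X_ne_zero h'
    · exact h
  · -- not flat
    intro hflat
    have hrel : ∑ i : Fin 2, φ.toRingHom (![u, 0] i) * (![v, 0] i) = 0 := by
      simp only [Fin.sum_univ_two, Matrix.cons_val_zero, Matrix.cons_val_one]
      change φ u * v + φ 0 * 0 = 0
      rw [hφu, huv]; simp
    obtain ⟨κ, a, yv, h1, h3⟩ := trivialRelation_of_flat φ.toRingHom hflat _ _ hrel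
    have ha : ∀ j, ∃ c, a 0 j = v * c := by
      intro j
      apply hker
      have h4 := h3 j
      simp only [Fin.sum_univ_two, Matrix.cons_val_zero, Matrix.cons_val_one, zero_mul,
        add_zero] at h4
      have h5 := congrArg (β₁ k) h4
      rw [map_mul, b1u, map_zero] at h5
      rcases mul_eq_zero.mp h5 with h' | h'
      · rcases mul_eq_zero.mp h' with h'' | h''
        · exact absurd h'' h2P
        · exact absurd h'' PowerSeries.X_ne_zero
      · exact h'
    choose c hc using ha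
    have h9 := h1 0
    simp only [Matrix.cons_val_zero] at h9
    have h10 := congrArg (β₂ k) h9
    rw [map_sum, b2v] at h10
    have h11 : ∀ j, β₂ k (φ.toRingHom (a 0 j) * yv j) =
        PowerSeries.X ^ 2 * (4 * β₂ k (φ (c j)) * β₂ k (yv j)) := by
      intro j
      change β₂ k (φ (a 0 j) * yv j) = _
      rw [hc j, map_mul φ, hφv, map_mul, map_mul, map_pow, b2v]
      ring
    simp only [h11, ← Finset.mul_sum] at h10
    have h12 := congrArg (PowerSeries.coeff 1) h10
    rw [PowerSeries.coeff_X_pow_mul', if_neg (by norm_num)] at h12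
    have : (-2 : PowerSeries k) = PowerSeries.C (-2 : k) := by rw [map_neg, map_ofNat]
    rw [this, PowerSeries.coeff_C_mul, PowerSeries.coeff_one_X, mul_one] at h12
    exact h2 (neg_eq_zero.mp h12)

end main96

end H5ArSing
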