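import Mathlib

/-!
# Non-reduced monic quadratic algebras (helper5, for S14310)
-/

set_option autoImplicit false

namespace H5ArSing.Sq

open Polynomial

variable {A : Type*} [CommRing A]

lemma exists_linear_rep (f : A[X]) (hm : f.Monic) (hd : f.natDegree = 2)
    (w : A[X] ⧸ Ideal.span {f}) :
    ∃ p q : A, w = Ideal.Quotient.mk _ (C p + C q * X) := by
  obtain ⟨r, rfl⟩ := Ideal.Quotient.mk_surjective w
  nontriviality A
  have hdeg : (r %ₘ f).degree < 2 := by
    have := Polynomial.degree_modByMonic_lt r hm
    rwa [Polynomial.degree_eq_natDegree hm.ne_zero, hd] at this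
  refine ⟨(r %ₘ f).coeff 0, (r %ₘ f).coeff 1, ?_⟩
  have h1 : r %ₘ f = C ((r %ₘ f).coeff 0) + C ((r %ₘ f).coeff 1) * X := by
    ext n
    rcases n with _ | _ | n
    · simp
    · simp
    · have : (r %ₘ f).coeff (n + 2) = 0 := by
        apply Polynomial.coeff_eq_zero_of_degree_lt
        refine lt_of_lt_of_le hdeg ?_
        exact_mod_cast (by omega : 2 ≤ n + 2)
      simp [this, Polynomial.coeff_C, Polynomial.coeff_X]
  rw [← h1, Ideal.Quotient.eq, Ideal.mem_span_singleton]
  exact ⟨r /ₘ f, by rw [Polynomial.modByMonic_eq_sub_mul_div]; ring⟩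

lemma linear_rep_unique (f : A[X]) (hm : f.Monic) (hd : f.natDegree = 2) (p q : A)
    (h : Ideal.Quotient.mk (Ideal.span {f}) (C p + C q * X) = 0) : p = 0 ∧ q = 0 := by
  nontriviality A
  rw [Ideal.Quotient.eq_zero_iff_mem, Ideal.mem_span_singleton] at h
  have hdeg : (C p + C q * X).degree < f.degree := by
    rw [Polynomial.degree_eq_natDegree hm.ne_zero, hd]
    refine lt_of_le_of_lt (Polynomial.degree_add_le _ _) (max_lt ?_ ?_)
    · exact lt_of_le_of_lt Polynomial.degree_C_le (by norm_num)
    · refine lt_of_le_of_lt (Polynomial.degree_C_mul_X_le q) (by norm_num)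
  have h0 : C p + C q * X = 0 := by
    obtain ⟨g, hg⟩ := h
    by_contra hne
    have hg0 : g ≠ 0 := by
      rintro rfl
      rw [mul_zero] at hg
      exact hne hg
    have : f.degree ≤ (C p + C q * X).degree := by
      rw [hg, mul_comm, hm.degree_mul]
      have : (0 : WithBot ℕ) ≤ g.degree := Polynomial.zero_le_degree_iff.mpr hg0
      calc f.degree = 0 + f.degree := (zero_add _).symm
        _ ≤ g.degree + f.degree := by gcongr
    exact absurd hdeg (not_lt.mpr this)
  constructor
  · have := congrArg (fun r => Polynomial.coeff r 0) h0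
    simpa using this
  · have := congrArg (fun r => Polynomial.coeff r 1) h0
    simpa using this

/-- a non-reduced monic quadratic algebra over an integrally closed domain is the quotient by a
perfect square. -/
theorem exists_eq_sq_of_not_isReduced [IsDomain A] [IsIntegrallyClosed A] (b c : A)
    (h : ¬ IsReduced (A[X] ⧸ Ideal.span {(X ^ 2 + C b * X + C c : A[X])})) :
    ∃ s : A, b = 2 * s ∧ c = s ^ 2 := by
  set f : A[X] := X ^ 2 + C b * X + C c with hf
  have hm : f.Monic := by
    rw [hf]
    have : (X ^ 2 + C b * X + C c : A[X]) = X ^ 2 + (C b * X + C c) := by ring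
    rw [this]
    apply Polynomial.monic_X_pow_add
    exact lt_of_le_of_lt (Polynomial.degree_linear_le) (by norm_num)
  have hd : f.natDegree = 2 := by
    rw [hf]
    have : (X ^ 2 + C b * X + C c : A[X]) = X ^ 2 + (C b * X + C c) := by ring
    rw [this]
    have hlt : (C b * X + C c : A[X]).degree < ((X : A[X]) ^ 2).degree := by
      rw [Polynomial.degree_X_pow]
      exact lt_of_le_of_lt (Polynomial.degree_linear_le) (by norm_num)
    rw [Polynomial.natDegree_add_eq_left_of_degree_lt hlt, Polynomial.natDegree_X_pow]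
  -- a nonzero element of square zero
  obtain ⟨w, hw0, hw2⟩ : ∃ w : A[X] ⧸ Ideal.span {f}, w ≠ 0 ∧ w ^ 2 = 0 := by
    by_contra hcon
    push Not at hcon
    apply h
    refine ⟨fun z hz => ?_⟩
    obtain ⟨n, hn⟩ := hz
    induction n using Nat.strong_induction_on generalizing z with
    | _ n ih =>
      by_cases hn1 : n ≤ 1
      · interval_cases n
        · have : (1 : A[X] ⧸ Ideal.span {f}) = 0 := by simpa using hn
          rw [← mul_one z, this, mul_zero]
        · simpa using hn
      · -- z ^ (n - 1) has square zero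
        push Not at hn1
        have h2 : (z ^ (n - 1)) ^ 2 = 0 := by
          rw [← pow_mul]
          have : n ≤ (n - 1) * 2 := by omega
          exact pow_eq_zero_of_le this hn
        have h3 : z ^ (n - 1) = 0 := by
          by_contra h3
          exact hcon _ h3 h2
        exact ih (n - 1) (by omega) z h3
  obtain ⟨p, q, rfl⟩ := exists_linear_rep f hm hd w
  have hkey : (C p + C q * X : A[X]) ^ 2 =
      C (q ^ 2) * f + (C (p ^ 2 - c * q ^ 2) + C (2 * p * q - b * q ^ 2) * X) := by
    rw [hf]
    simp only [map_sub, map_mul, map_pow, map_ofNat]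
    ring
  have h4 : Ideal.Quotient.mk (Ideal.span {f})
      (C (p ^ 2 - c * q ^ 2) + C (2 * p * q - b * q ^ 2) * X) = 0 := by
    rw [← map_pow, hkey, map_add, map_mul] at hw2
    have : Ideal.Quotient.mk (Ideal.span {f}) f = 0 :=
      Ideal.Quotient.eq_zero_iff_mem.mpr (Ideal.mem_span_singleton_self f)
    rw [this, mul_zero, zero_add] at hw2
    exact hw2
  obtain ⟨e1, e2⟩ := linear_rep_unique f hm hd _ _ h4
  have hq : q ≠ 0 := by
    rintro rfl
    have : p ^ 2 = 0 := by simpa using e1
    have hp : p = 0 := pow_eq_zero_iff (n := 2) (by norm_num) |>.mp this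
    apply hw0
    rw [hp]
    simp
  have hdvd : q ∣ p := by
    rw [← IsIntegrallyClosed.pow_dvd_pow_iff (n := 2) (by norm_num)]
    exact ⟨c, by linear_combination e1⟩
  obtain ⟨s, rfl⟩ := hdvd
  refine ⟨s, ?_, ?_⟩
  · have : q ^ 2 * (b - 2 * s) = 0 := by linear_combination -e2
    rcases mul_eq_zero.mp this with h5 | h5
    · exact absurd (pow_eq_zero_iff (n := 2) (by norm_num) |>.mp h5) hq
    · linear_combination h5
  · have : q ^ 2 * (c - s ^ 2) = 0 := by linear_combination -e1
    rcases mul_eq_zero.mp this with h5 | h5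
    · exact absurd (pow_eq_zero_iff (n := 2) (by norm_num) |>.mp h5) hq
    · linear_combination h5

end H5ArSing.Sq
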