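import Mathlib
import Groth.Agent.Lib.Helper5.ArSing.Main14311
import Groth.Agent.Lib.Helper5.ArSing.Sq1

/-!
# From an isomorphism with the double line to a square factor (helper5, for S14310)
-/

set_option autoImplicit false
universe u

namespace H5ArSing

open MvPowerSeries Coord

variable (k : Type u) [Field k]

instance : IsDomain (P₁ k) := NoZeroDivisors.to_isDomain _

instance : IsDomain (MvPowerSeries (Fin 2) k) := NoZeroDivisors.to_isDomain _

instance : IsIntegrallyClosed (P₁ k) :=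
  IsIntegrallyClosed.of_equiv (ρ k).toRingEquiv

/-- Weierstrass preparation, with the factorisation. -/
theorem exists_weierstrass (G : MvPowerSeries (Fin 2) k) (d : ℕ)
    (hd : coeff (Finsupp.single 1 d) G ≠ 0) (hlt : ∀ i < d, coeff (Finsupp.single 1 i) G = 0) :
    ∃ (f : Polynomial (P₁ k)) (h : PowerSeries (P₁ k)), f.Monic ∧ f.natDegree = d ∧
      (∀ i < d, f.coeff i ∈ IsLocalRing.maximalIdeal (P₁ k)) ∧ IsUnit h ∧ E k G = f * h ∧
      f.IsDistinguishedAt (IsLocalRing.maximalIdeal (P₁ k)) := by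
  have hcoeff : ∀ j, PowerSeries.coeff j ((E k G).map (IsLocalRing.residue (P₁ k))) = 0 ↔
      coeff (Finsupp.single 1 j) G = 0 := by
    intro j
    rw [PowerSeries.coeff_map, residue_eq_zero_iff, constantCoeff_coeff_E]
  have hord : ((E k G).map (IsLocalRing.residue (P₁ k))).order = d := by
    rw [PowerSeries.order_eq_nat]
    exact ⟨fun h => hd ((hcoeff d).1 h), fun i hi => (hcoeff i).2 (hlt i hi)⟩
  have hg : (E k G).map (IsLocalRing.residue (P₁ k)) ≠ 0 := by
    intro h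
    apply hd
    rw [← hcoeff, h, map_zero]
  have H := (E k G).isWeierstrassFactorization_weierstrassDistinguished_weierstrassUnit hg
  have hnd : ((E k G).weierstrassDistinguished hg).natDegree = d := by
    rw [H.natDegree_eq_toNat_order_map, hord]
    rfl
  refine ⟨(E k G).weierstrassDistinguished hg, (E k G).weierstrassUnit hg,
    H.isDistinguishedAt.monic, hnd, ?_, H.isUnit, H.eq_mul, H.isDistinguishedAt⟩
  intro i hi
  exact H.isDistinguishedAt.mem (by rw [hnd]; exact hi)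

variable {k}

/-- coordinates adapted to a germ of multiplicity two. -/
theorem exists_coord_of_mem_sq (G : MvPowerSeries (Fin 2) k)
    (hG2 : G ∈ IsLocalRing.maximalIdeal (MvPowerSeries (Fin 2) k) ^ 2)
    (hG3 : G ∉ IsLocalRing.maximalIdeal (MvPowerSeries (Fin 2) k) ^ 3) :
    ∃ θ : MvPowerSeries (Fin 2) k ≃ₐ[k] MvPowerSeries (Fin 2) k,
      cf (θ G) 0 0 = 0 ∧ cf (θ G) 0 1 = 0 ∧ cf (θ G) 0 2 ≠ 0 := by
  rw [mem_pow_iff] at hG2
  have h00 := hG2 0 0 (by norm_num)
  have hβ := hG2 0 1 (by norm_num)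
  have hα := hG2 1 0 (by norm_num)
  by_cases hc : cf G 0 2 = 0
  · by_cases ha : cf G 2 0 = 0
    · have hb : cf G 1 1 ≠ 0 := by
        intro hb
        apply hG3
        rw [mem_pow_iff]
        intro p q hpq
        have : (p = 0 ∧ q = 0) ∨ (p = 1 ∧ q = 0) ∨ (p = 0 ∧ q = 1) ∨ (p = 2 ∧ q = 0) ∨
            (p = 1 ∧ q = 1) ∨ (p = 0 ∧ q = 2) := by omega
        rcases this with ⟨rfl, rfl⟩ | ⟨rfl, rfl⟩ | ⟨rfl, rfl⟩ | ⟨rfl, rfl⟩ | ⟨rfl, rfl⟩ |
          ⟨rfl, rfl⟩ <;> assumption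
      obtain ⟨s0, s1, s2⟩ := cf_shear G h00 hα hβ ha hc
      exact ⟨shear 1, s0, s1, by rw [s2]; exact hb⟩
    · exact ⟨sw, by rw [cf_sw]; exact h00, by rw [cf_sw]; exact hα, by rw [cf_sw]; exact ha⟩
  · exact ⟨AlgEquiv.refl, h00, hβ, hc⟩

lemma not_isReduced_double :
    ¬ IsReduced (MvPowerSeries (Fin 2) k ⧸ Ideal.span {(X 1 : MvPowerSeries (Fin 2) k) ^ 2}) := by
  intro h
  have h1 : (Ideal.Quotient.mk (Ideal.span {(X 1 : MvPowerSeries (Fin 2) k) ^ 2}) (X 1)) ^ 2 = 0 := by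
    rw [← map_pow, Ideal.Quotient.eq_zero_iff_mem]
    exact Ideal.mem_span_singleton_self _
  have h2 : IsNilpotent (Ideal.Quotient.mk (Ideal.span {(X 1 : MvPowerSeries (Fin 2) k) ^ 2}) (X 1)) :=
    ⟨2, h1⟩
  have h3 := h.eq_zero _ h2
  rw [Ideal.Quotient.eq_zero_iff_mem, Ideal.mem_span_singleton] at h3
  obtain ⟨c, hc⟩ := h3
  have h4 : (X 1 : MvPowerSeries (Fin 2) k) ∈
      IsLocalRing.maximalIdeal (MvPowerSeries (Fin 2) k) ^ 2 := by
    rw [hc]
    exact Ideal.mul_mem_right _ _ (Ideal.pow_mem_pow (X_mem 1) 2)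
  rw [mem_pow_iff] at h4
  have := h4 0 1 (by norm_num)
  have h5 : cf (X 1 : MvPowerSeries (Fin 2) k) 0 1 = 1 := by
    have := cf_X1_pow k 1 0 1
    rw [pow_one] at this
    rw [this]
    simp
  rw [h5] at this
  exact one_ne_zero this

end H5ArSing

namespace H5ArSing

open MvPowerSeries Coord

variable {k : Type u} [Field k]

/-- **Step 1**: if `k[[x,y]]/(F)` is a double line then `F` is a unit times the square of a regular
parameter. -/
theorem exists_sq_factor (F : MvPowerSeries (Fin 2) k)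
    (e : (MvPowerSeries (Fin 2) k ⧸ Ideal.span {F}) ≃ₐ[k]
      (MvPowerSeries (Fin 2) k ⧸ Ideal.span {(X 1 : MvPowerSeries (Fin 2) k) ^ 2})) :
    ∃ G₁ H₁ : MvPowerSeries (Fin 2) k, IsUnit H₁ ∧ F = G₁ ^ 2 * H₁ ∧
      G₁ ∈ IsLocalRing.maximalIdeal (MvPowerSeries (Fin 2) k) ∧
      G₁ ∉ IsLocalRing.maximalIdeal (MvPowerSeries (Fin 2) k) ^ 2 ∧
      Nonempty ((MvPowerSeries (Fin 2) k ⧸ Ideal.span {G₁}) ≃ₐ[k] P₁ k) := by
  have hF1 : F ∈ IsLocalRing.maximalIdeal (MvPowerSeries (Fin 2) k) := by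
    by_contra h
    have hu : IsUnit F := by
      rwa [IsLocalRing.mem_maximalIdeal, mem_nonunits_iff, not_not] at h
    have hs : Subsingleton (MvPowerSeries (Fin 2) k ⧸ Ideal.span {F}) :=
      Ideal.Quotient.subsingleton_iff.mpr (Ideal.span_singleton_eq_top.mpr hu)
    have hs' : Subsingleton (MvPowerSeries (Fin 2) k ⧸
        Ideal.span {(X 1 : MvPowerSeries (Fin 2) k) ^ 2}) := e.symm.injective.subsingleton
    rw [Ideal.Quotient.subsingleton_iff, Ideal.span_singleton_eq_top] at hs'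
    have := sq_mem k
    rw [IsLocalRing.mem_maximalIdeal, mem_nonunits_iff] at this
    exact this hs'
  have hF2 : F ∈ IsLocalRing.maximalIdeal (MvPowerSeries (Fin 2) k) ^ 2 := by
    by_contra h
    exact (H5ArSing.NoIso.isEmpty_equiv ((X 1 : MvPowerSeries (Fin 2) k) ^ 2) F 2 (by norm_num)
      (Ideal.pow_mem_pow (X_mem 1) 2) hF1 h).false e.symm.toRingEquiv
  have hF3 : F ∉ IsLocalRing.maximalIdeal (MvPowerSeries (Fin 2) k) ^ 3 := fun h =>
    (H5ArSing.NoIso.isEmpty_equiv F ((X 1 : MvPowerSeries (Fin 2) k) ^ 2) 3 (by norm_num) h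
      (sq_mem k) (sq_not_mem_cube k)).false e.toRingEquiv
  obtain ⟨θ, c0, c1, c2⟩ := exists_coord_of_mem_sq F hF2 hF3
  obtain ⟨f, h, hm, hd, hmem, hu, hEq, hdist⟩ := exists_weierstrass k (θ F) 2
    (by rwa [← cf_zero_left])
    (by
      intro i hi
      interval_cases i
      · rwa [← cf_zero_left]
      · rwa [← cf_zero_left])
  have H : (E k (θ F)).IsWeierstrassFactorization f h := ⟨hdist, hu, hEq⟩
  let e1 : (MvPowerSeries (Fin 2) k ⧸ Ideal.span {θ F}) ≃ₐ[k]
      (PowerSeries (P₁ k) ⧸ Ideal.span {E k (θ F)}) :=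
    Ideal.quotientEquivAlg _ _ (E k) (by
      rw [Ideal.map_span, Set.image_singleton]
      rfl)
  let e3 : (Polynomial (P₁ k) ⧸ Ideal.span {f}) ≃ₐ[k]
      (MvPowerSeries (Fin 2) k ⧸ Ideal.span {(X 1 : MvPowerSeries (Fin 2) k) ^ 2}) :=
    (H.algEquivQuotient.restrictScalars k).trans (e1.symm.trans ((transport k θ F).symm.trans e))
  have hf := monic_quadratic_eq f hm hd
  have hnr : ¬ IsReduced (Polynomial (P₁ k) ⧸ Ideal.span
      {(Polynomial.X ^ 2 + Polynomial.C (f.coeff 1) * Polynomial.X + Polynomial.C (f.coeff 0) :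
        Polynomial (P₁ k))}) := by
    rw [← hf]
    intro hr
    exact not_isReduced_double (k := k)
      (isReduced_of_injective e3.symm e3.symm.injective)
  obtain ⟨s, hb, hc⟩ := Sq.exists_eq_sq_of_not_isReduced _ _ hnr
  have hf2 : f = (Polynomial.X + Polynomial.C s) ^ 2 := by
    rw [hf, hb, hc]
    simp only [map_mul, map_pow, map_ofNat]
    ring
  have hs : s ∈ IsLocalRing.maximalIdeal (P₁ k) := by
    have h0 := hmem 0 (by norm_num)
    rw [hc] at h0
    exact Ideal.IsPrime.mem_of_pow_mem inferInstance 2 h0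
  set G₂ : MvPowerSeries (Fin 2) k :=
    (E k).symm (((Polynomial.X + Polynomial.C s : Polynomial (P₁ k))) : PowerSeries (P₁ k)) with hG₂
  set H₂ : MvPowerSeries (Fin 2) k := (E k).symm h with hH₂
  have hθF : θ F = G₂ ^ 2 * H₂ := by
    apply (E k).injective
    rw [hEq, hf2, map_mul, map_pow, hG₂, hH₂, AlgEquiv.apply_symm_apply, AlgEquiv.apply_symm_apply,
      Polynomial.coe_pow]
  have hcf : ∀ j, cf G₂ 0 j = constantCoeff (PowerSeries.coeff j
      (((Polynomial.X + Polynomial.C s : Polynomial (P₁ k))) : PowerSeries (P₁ k))) := by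
    intro j
    rw [cf_zero_left, ← constantCoeff_coeff_E, hG₂, AlgEquiv.apply_symm_apply]
  have hs0 : constantCoeff s = 0 := (mem_maximalIdeal_iff k s).mp hs
  have g0 : cf G₂ 0 0 = 0 := by
    rw [hcf]
    simp [hs0]
  have g1 : cf G₂ 0 1 = 1 := by
    rw [hcf]
    simp
  have hG₂m : G₂ ∈ IsLocalRing.maximalIdeal (MvPowerSeries (Fin 2) k) := by
    rw [← pow_one (IsLocalRing.maximalIdeal (MvPowerSeries (Fin 2) k)), mem_pow_iff]
    intro p q hpq
    have hp : p = 0 := by omega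
    have hq : q = 0 := by omega
    subst hp hq
    exact g0
  have hG₂n : G₂ ∉ IsLocalRing.maximalIdeal (MvPowerSeries (Fin 2) k) ^ 2 := by
    rw [mem_pow_iff]
    intro hh
    have := hh 0 1 (by norm_num)
    rw [g1] at this
    exact one_ne_zero this
  refine ⟨θ.symm G₂, θ.symm H₂, ?_, ?_, ?_, ?_, ?_⟩
  · exact (hu.map (E k).symm).map θ.symm
  · rw [← map_pow, ← map_mul, ← hθF, AlgEquiv.symm_apply_apply]
  · have := equiv_mem_pow θ.symm 1 G₂ (by rwa [pow_one])
    rwa [pow_one] at this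
  · intro hh
    apply hG₂n
    have := equiv_mem_pow θ 2 _ hh
    rwa [AlgEquiv.apply_symm_apply] at this
  · obtain ⟨e5⟩ := nonempty_equiv_P1 k G₂ g0 (by rw [g1]; exact one_ne_zero)
    have e4 := transport k θ (θ.symm G₂)
    rw [AlgEquiv.apply_symm_apply] at e4
    exact ⟨e4.trans e5⟩

end H5ArSing
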