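import Mathlib
import Groth.Agent.Lib.Helper5.ArSing.Taylor

/-!
# Polynomial lemmas for S14310 (helper5)

* a polynomial over an algebraically closed field all of whose partial derivatives vanish is not
  irreducible;
* two coprime polynomials in two variables cannot both lie in a prime ideal strictly between `0`
  and a prime ideal.
-/

set_option autoImplicit false
universe u

namespace H5ArSing.Poly

open MvPolynomial

variable {k : Type u} [Field k] {σ : Type*}

lemma natCast_eq_zero_of_pderiv_eq_zero (q : MvPolynomial σ k) (h : ∀ i, pderiv i q = 0)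
    (n : σ →₀ ℕ) (hn : coeff n q ≠ 0) (i : σ) : ((n i : ℕ) : k) = 0 := by
  classical
  by_cases hi : n i = 0
  · simp [hi]
  have hn' : n = (n - Finsupp.single i 1) + Finsupp.single i 1 := by
    ext j
    by_cases hj : j = i
    · subst hj
      simp only [Finsupp.coe_add, Finsupp.coe_tsub, Pi.add_apply, Pi.sub_apply,
        Finsupp.single_eq_same]
      omega
    · simp [Finsupp.single_apply, Ne.symm hj]
  have h1 := coeff_pderiv (i := i) q (n - Finsupp.single i 1)
  rw [h i, coeff_zero, ← hn'] at h1
  have h2 : ((((n - Finsupp.single i 1 : σ →₀ ℕ) i : ℕ)) : k) + 1 = ((n i : ℕ) : k) := by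
    have : (n - Finsupp.single i 1 : σ →₀ ℕ) i + 1 = n i := by
      simp only [Finsupp.coe_tsub, Pi.sub_apply, Finsupp.single_eq_same]
      omega
    rw [← this]
    push_cast
    rfl
  rw [h2] at h1
  rcases mul_eq_zero.mp h1.symm with h3 | h3
  · exact absurd h3 hn
  · exact h3

/-- over an algebraically closed field, a polynomial with vanishing partial derivatives is not
irreducible (it is a constant or a `p`-th power). -/
theorem not_irreducible_of_pderiv_eq_zero [IsAlgClosed k] (q : MvPolynomial σ k)
    (h : ∀ i, pderiv i q = 0) : ¬ Irreducible q := by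
  classical
  intro hirr
  rcases CharP.exists' k with h0 | ⟨p, hp, hchar⟩
  · -- characteristic zero: `q` is constant
    have hq : q = C (coeff 0 q) := by
      ext n
      rw [coeff_C]
      by_cases hn : 0 = n
      · rw [if_pos hn, hn]
      · rw [if_neg hn]
        by_contra hne
        apply hn
        ext i
        have := natCast_eq_zero_of_pderiv_eq_zero q h n hne i
        rw [Nat.cast_eq_zero] at this
        rw [this]
        rfl
    by_cases hc : coeff 0 q = 0
    · rw [hc, map_zero] at hq
      exact hirr.ne_zero hq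
    · apply hirr.not_isUnit
      rw [hq]
      exact (isUnit_iff_ne_zero.mpr hc).map C
  · haveI : ExpChar k p := ExpChar.prime hp.out
    haveI : PerfectRing k p := PerfectField.toPerfectRing p
    have hdiv : ∀ n ∈ q.support, ∀ i, p ∣ n i := by
      intro n hn i
      have := natCast_eq_zero_of_pderiv_eq_zero q h n (mem_support_iff.mp hn) i
      exact (CharP.cast_eq_zero_iff k p _).mp this
    let r' : MvPolynomial σ k :=
      ∑ n ∈ q.support, monomial (n.mapRange (· / p) (by simp)) (coeff n q)
    have hexp : expand p r' = q := by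
      rw [map_sum]
      conv_rhs => rw [← q.support_sum_monomial_coeff]
      refine Finset.sum_congr rfl fun n hn => ?_
      rw [expand_monomial]
      have hpn : p • Finsupp.mapRange (· / p) (by simp) n = n := by
        ext i
        rw [Finsupp.smul_apply, Finsupp.mapRange_apply, smul_eq_mul]
        exact Nat.mul_div_cancel' (hdiv n hn i)
      rw [hpn]
    let r : MvPolynomial σ k := map ((frobeniusEquiv k p).symm : k →+* k) r'
    have hq : q = r ^ p := by
      rw [← map_frobenius_expand p, map_expand, map_map]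
      have : (frobenius k p).comp ((frobeniusEquiv k p).symm : k →+* k) = RingHom.id k := by
        ext x
        simp
      rw [this, MvPolynomial.map_id, hexp]
    have hp2 : 2 ≤ p := hp.out.two_le
    have hq' : q = r * r ^ (p - 1) := by
      rw [hq, ← pow_succ']
      congr 1
      omega
    rcases hirr.isUnit_or_isUnit hq' with hu | hu
    · apply hirr.not_isUnit
      rw [hq]
      exact hu.pow p
    · apply hirr.not_isUnit
      rw [hq]
      exact ((isUnit_pow_iff (by omega)).mp hu).pow p

/-- `k[x,y]` has dimension two: no chain of four primes. -/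
theorem false_of_prime_chain (I₁ I₂ I₃ : Ideal (MvPolynomial (Fin 2) k)) [I₁.IsPrime] [I₂.IsPrime]
    [I₃.IsPrime] (h0 : I₁ ≠ ⊥) (h1 : I₁ < I₂) (h2 : I₂ < I₃) : False := by
  have hb : (⊥ : Ideal (MvPolynomial (Fin 2) k)) < I₁ := bot_lt_iff_ne_bot.mpr h0
  have e0 := Ideal.height_add_one_le_of_lt_of_isPrime hb
  have e1 := Ideal.height_add_one_le_of_lt_of_isPrime h1
  have e2 := Ideal.height_add_one_le_of_lt_of_isPrime h2
  have e3 : (I₃.height : WithBot ℕ∞) ≤ ringKrullDim (MvPolynomial (Fin 2) k) :=
    Ideal.height_le_ringKrullDim_of_isPrime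
  rw [MvPolynomial.ringKrullDim_of_isNoetherianRing, ringKrullDim_eq_zero_of_field] at e3
  have e4 : (3 : ℕ∞) ≤ I₃.height := by
    calc (3 : ℕ∞) = 0 + 1 + 1 + 1 := by norm_num
      _ ≤ (⊥ : Ideal (MvPolynomial (Fin 2) k)).height + 1 + 1 + 1 := by gcongr; exact zero_le
      _ ≤ I₁.height + 1 + 1 := by gcongr
      _ ≤ I₂.height + 1 := by gcongr
      _ ≤ I₃.height := e2
  have e6 : (0 : WithBot ℕ∞) + ((Nat.card (Fin 2) : ℕ) : WithBot ℕ∞) = ((2 : ℕ∞) : WithBot ℕ∞) := by
    simp only [Nat.card_eq_fintype_card, Fintype.card_fin, zero_add]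
    rfl
  rw [e6, WithBot.coe_le_coe] at e3
  have : (3 : ℕ∞) ≤ 2 := le_trans e4 e3
  exact absurd this (by norm_num)

/-- two coprime polynomials of `k[x,y]` do not lie in a common prime strictly contained in another
prime. -/
theorem false_of_isRelPrime_of_mem (𝔫 𝔪' : Ideal (MvPolynomial (Fin 2) k)) [𝔫.IsPrime] [𝔪'.IsPrime]
    (hlt : 𝔫 < 𝔪') (q₁ q₂ : MvPolynomial (Fin 2) k) (hq₁ : q₁ ≠ 0) (h₁ : q₁ ∈ 𝔫) (h₂ : q₂ ∈ 𝔫)
    (hcop : IsRelPrime q₁ q₂) : False := by
  have hne : 𝔫 ≠ ⊥ := fun h => hq₁ (by rw [h] at h₁; simpa using h₁)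
  obtain ⟨π, hπmem, hπ⟩ := Ideal.IsPrime.exists_mem_prime_of_ne_bot ‹𝔫.IsPrime› hne
  haveI : (Ideal.span {π}).IsPrime := (Ideal.span_singleton_prime hπ.ne_zero).mpr hπ
  have hle : Ideal.span {π} ≤ 𝔫 := (Ideal.span_singleton_le_iff_mem _).mpr hπmem
  rcases hle.eq_or_lt with heq | hlt'
  · rw [← heq, Ideal.mem_span_singleton] at h₁ h₂
    exact hπ.not_isUnit (hcop h₁ h₂)
  · refine false_of_prime_chain (Ideal.span {π}) 𝔫 𝔪' ?_ hlt' hlt
    intro h
    rw [Ideal.span_singleton_eq_bot] at h
    exact hπ.ne_zero h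

end H5ArSing.Poly
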