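import Mathlib
import Groth.Agent.Lib.Helper5.ArSing.Sq2
import Groth.Agent.Lib.Helper5.ArSing.Sq3

/-!
# Taylor expansion `k[x,y] → k[[x,y]]` as a ring hom, and basic facts (helper5, for S14310)
-/

set_option autoImplicit false
universe u

namespace H5ArSing.Sq

open MvPowerSeries

variable {k : Type u} [Field k] (a : Fin 2 → k)

/-- Taylor expansion at `a` as a ring hom `k[x,y] → k[[x,y]]`. -/
noncomputable def TP : MvPolynomial (Fin 2) k →+* MvPowerSeries (Fin 2) k :=
  (MvPolynomial.coeToMvPowerSeries.ringHom).comp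
    (Taylor.T a : MvPolynomial (Fin 2) k →+* MvPolynomial (Fin 2) k)

lemma TP_apply (g : MvPolynomial (Fin 2) k) : TP a g = Taylor.F a g := rfl

lemma TP_mem_maximalIdeal_iff (g : MvPolynomial (Fin 2) k) :
    TP a g ∈ IsLocalRing.maximalIdeal (MvPowerSeries (Fin 2) k) ↔ MvPolynomial.eval a g = 0 :=
  Taylor.F_mem_maximalIdeal_iff a g

lemma isUnit_TP_iff (g : MvPolynomial (Fin 2) k) :
    IsUnit (TP a g) ↔ MvPolynomial.eval a g ≠ 0 := by
  rw [← not_iff_not, not_not, ← TP_mem_maximalIdeal_iff, IsLocalRing.mem_maximalIdeal,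
    mem_nonunits_iff]

lemma pderiv_TP (i : Fin 2) (g : MvPolynomial (Fin 2) k) :
    MvPowerSeries.pderiv k i (TP a g) = TP a (MvPolynomial.pderiv i g) := by
  change MvPowerSeries.pderiv k i ((Taylor.T a g : MvPolynomial (Fin 2) k) : MvPowerSeries (Fin 2) k)
    = ((Taylor.T a (MvPolynomial.pderiv i g) : MvPolynomial (Fin 2) k) : MvPowerSeries (Fin 2) k)
  rw [MvPowerSeries.pderiv_coe, Taylor.pderiv_T]

lemma TP_mem_sq_iff (g : MvPolynomial (Fin 2) k) :
    TP a g ∈ IsLocalRing.maximalIdeal (MvPowerSeries (Fin 2) k) ^ 2 ↔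
      MvPolynomial.eval a g = 0 ∧ ∀ i, MvPolynomial.eval a (MvPolynomial.pderiv i g) = 0 := by
  rw [Taylor.mem_maximalIdeal_pow_iff]
  constructor
  · intro H
    refine ⟨?_, fun i => ?_⟩
    · have := H 0 (by simp)
      rw [TP_apply, Taylor.F, MvPolynomial.coeff_coe, ← MvPolynomial.constantCoeff_eq,
        Taylor.constantCoeff_T] at this
      exact this
    · have := H (Finsupp.single i 1) (by rw [Finsupp.degree_single]; norm_num)
      rw [TP_apply, Taylor.F, MvPolynomial.coeff_coe, Taylor.coeff_single_T] at this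
      exact this
  · rintro ⟨h0, h1⟩ β hβ
    rw [TP_apply, Taylor.F, MvPolynomial.coeff_coe]
    by_cases hβ0 : β.degree = 0
    · rw [Finsupp.degree_eq_zero_iff] at hβ0
      subst hβ0
      rw [← MvPolynomial.constantCoeff_eq, Taylor.constantCoeff_T]
      exact h0
    · have hβ1 : β.degree = 0 + 1 := by omega
      obtain ⟨i, β', hβ', hd⟩ := Taylor.exists_eq_add_single β 0 hβ1
      rw [Finsupp.degree_eq_zero_iff] at hd
      subst hd
      rw [hβ', zero_add, Taylor.coeff_single_T]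
      exact h1 i

lemma TP_X_sub_C (i : Fin 2) :
    TP a (MvPolynomial.X i - MvPolynomial.C (a i)) = (X i : MvPowerSeries (Fin 2) k) := by
  rw [TP_apply, Taylor.F, map_sub, Taylor.T_X, Taylor.T_C, add_sub_cancel_right, MvPolynomial.coe_X]


section deg
open MvPolynomial
variable {σ : Type*}

lemma totalDegree_pderiv_lt (q : MvPolynomial σ k) (i : σ) (h : pderiv i q ≠ 0) :
    (pderiv i q).totalDegree < q.totalDegree := by
  classical
  have hne : (pderiv i q).support.Nonempty := by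
    rwa [MvPolynomial.support_nonempty]
  obtain ⟨d, hd, hsup⟩ := Finset.exists_mem_eq_sup _ hne (fun s => s.sum fun _ e => e)
  have hc : coeff d (pderiv i q) ≠ 0 := mem_support_iff.mp hd
  rw [MvPolynomial.coeff_pderiv] at hc
  have hc' : coeff (d + Finsupp.single i 1) q ≠ 0 := left_ne_zero_of_mul hc
  have h1 := le_totalDegree (mem_support_iff.mpr hc')
  rw [Finsupp.sum_add_index' (fun _ => rfl) (fun _ _ _ => rfl), Finsupp.sum_single_index rfl] at h1
  unfold totalDegree at h1 ⊢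
  rw [hsup]
  omega

lemma not_dvd_pderiv (q : MvPolynomial σ k) (i : σ) (h : pderiv i q ≠ 0) : ¬ q ∣ pderiv i q := by
  intro hd
  have := totalDegree_le_of_dvd_of_isDomain hd h
  have := totalDegree_pderiv_lt q i h
  omega

end deg

/-- a nonunit of `k[[x,y]]` does not divide both coordinates. -/
lemma not_both_X_mem (G : MvPowerSeries (Fin 2) k)
    (hG : G ∈ IsLocalRing.maximalIdeal (MvPowerSeries (Fin 2) k)) :
    ¬ ((X 0 : MvPowerSeries (Fin 2) k) ∈ Ideal.span {G} ∧
      (X 1 : MvPowerSeries (Fin 2) k) ∈ Ideal.span {G}) := by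
  rintro ⟨h0, h1⟩
  rw [Ideal.mem_span_singleton] at h0 h1
  obtain ⟨u, hu⟩ := h0
  obtain ⟨v, hv⟩ := h1
  have c0 : constantCoeff G = 0 := by
    have := (Taylor.mem_maximalIdeal_pow_iff 2 1 G).mp (by rwa [pow_one]) 0 (by simp)
    rwa [coeff_zero_eq_constantCoeff] at this
  have e1 := congrArg (fun z => constantCoeff (MvPowerSeries.pderiv k 1 z)) hu
  have e2 := congrArg (fun z => constantCoeff (MvPowerSeries.pderiv k 0 z)) hu
  have e3 := congrArg (fun z => constantCoeff (MvPowerSeries.pderiv k 1 z)) hv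
  simp only [Derivation.leibniz, smul_eq_mul, map_add, map_mul, c0, zero_mul, zero_add] at e1 e2 e3
  rw [MvPowerSeries.pderiv_X_of_ne (by decide)] at e1
  rw [MvPowerSeries.pderiv_X_self] at e2 e3
  simp only [map_zero, map_one] at e1 e2 e3
  have hu0 : constantCoeff u ≠ 0 := by
    intro h
    rw [h, zero_mul] at e2
    exact one_ne_zero e2
  have hG1 : constantCoeff (MvPowerSeries.pderiv k 1 G) = 0 := by
    rcases mul_eq_zero.mp e1.symm with h | h
    · exact absurd h hu0
    · exact h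
  rw [hG1, mul_zero] at e3
  exact one_ne_zero e3

/-- extracting an irreducible factor whose Taylor expansion is divisible by a given prime. -/
lemma exists_irreducible_factor (G₁ : MvPowerSeries (Fin 2) k) (hp : Prime G₁)
    (m : MvPolynomial (Fin 2) k) (hm : m ≠ 0) (h : G₁ ∣ TP a m) :
    ∃ q m' : MvPolynomial (Fin 2) k, Irreducible q ∧ m = q * m' ∧ G₁ ∣ TP a q := by
  induction m using WfDvdMonoid.induction_on_irreducible with
  | zero => exact absurd rfl hm
  | unit u hu =>
    exfalso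
    exact hp.not_isUnit (isUnit_of_dvd_unit h (hu.map (TP a)))
  | mul b i hb hi ih =>
    rw [map_mul] at h
    rcases hp.dvd_or_dvd h with h1 | h1
    · exact ⟨i, b, hi, rfl, h1⟩
    · obtain ⟨q, m', hq, hm', hG⟩ := ih hb h1
      exact ⟨q, i * m', hq, by rw [hm']; ring, hG⟩

open MvPolynomial in
/-- **Step 2**: from a power series factorization `TP f = G₁² H₁` to a polynomial one. -/
theorem exists_poly_factor [IsAlgClosed k] (f : MvPolynomial (Fin 2) k)
    (G₁ H₁ : MvPowerSeries (Fin 2) k) (hH : IsUnit H₁) (hF : TP a f = G₁ ^ 2 * H₁)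
    (hG1 : G₁ ∈ IsLocalRing.maximalIdeal (MvPowerSeries (Fin 2) k))
    (hG2 : G₁ ∉ IsLocalRing.maximalIdeal (MvPowerSeries (Fin 2) k) ^ 2) (hp : Prime G₁) :
    ∃ g h : MvPolynomial (Fin 2) k, f = g ^ 2 * h ∧ eval a h ≠ 0 ∧ eval a g = 0 ∧
      ∃ i, eval a (pderiv i g) ≠ 0 := by
  have hG0 : G₁ ≠ 0 := hp.ne_zero
  have hf0 : f ≠ 0 := by
    rintro rfl
    rw [map_zero] at hF
    rcases mul_eq_zero.mp hF.symm with h | h
    · exact hG0 ((pow_eq_zero_iff (two_ne_zero)).mp h)
    · exact hH.ne_zero h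
  obtain ⟨q, m₁, hq, hfm, hGq⟩ := exists_irreducible_factor a G₁ hp f hf0
    (by rw [hF]; exact dvd_mul_of_dvd_left (dvd_pow_self G₁ two_ne_zero) H₁)
  haveI hprime : (Ideal.span {G₁}).IsPrime := (Ideal.span_singleton_prime hG0).mpr hp
  set 𝔫 : Ideal (MvPolynomial (Fin 2) k) := Ideal.comap (TP a) (Ideal.span {G₁}) with h𝔫
  set 𝔪' : Ideal (MvPolynomial (Fin 2) k) :=
    Ideal.comap (TP a) (IsLocalRing.maximalIdeal (MvPowerSeries (Fin 2) k)) with h𝔪'
  have hmem𝔫 : ∀ r, r ∈ 𝔫 ↔ G₁ ∣ TP a r := fun r => by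
    rw [h𝔫, Ideal.mem_comap, Ideal.mem_span_singleton]
  have hlt : 𝔫 < 𝔪' := by
    rw [SetLike.lt_iff_le_and_exists]
    refine ⟨Ideal.comap_mono ((Ideal.span_singleton_le_iff_mem _).mpr hG1), ?_⟩
    have := not_both_X_mem G₁ hG1
    rw [not_and_or] at this
    rcases this with h | h
    · refine ⟨MvPolynomial.X 0 - MvPolynomial.C (a 0), ?_, ?_⟩
      · rw [h𝔪', Ideal.mem_comap, TP_X_sub_C]
        exact Coord.X_mem 0
      · rw [h𝔫, Ideal.mem_comap, TP_X_sub_C]
        exact h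
    · refine ⟨MvPolynomial.X 1 - MvPolynomial.C (a 1), ?_, ?_⟩
      · rw [h𝔪', Ideal.mem_comap, TP_X_sub_C]
        exact Coord.X_mem 1
      · rw [h𝔫, Ideal.mem_comap, TP_X_sub_C]
        exact h
  by_cases hsq : G₁ ^ 2 ∣ TP a q
  · -- inseparable case: contradiction
    exfalso
    obtain ⟨A', hA'⟩ := hsq
    have hder : ∀ i, G₁ ∣ TP a (pderiv i q) := by
      intro i
      rw [← pderiv_TP, hA', Derivation.leibniz, MvPowerSeries.pderiv_pow, smul_eq_mul, smul_eq_mul]
      refine dvd_add (Dvd.dvd.mul_right (dvd_pow_self G₁ two_ne_zero) _) (Dvd.dvd.mul_left ?_ _)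
      refine Dvd.dvd.mul_right (Dvd.dvd.mul_left ?_ _) _
      simp
    by_cases hall : ∀ i, pderiv i q = 0
    · exact Poly.not_irreducible_of_pderiv_eq_zero q hall hq
    · push Not at hall
      obtain ⟨i, hi⟩ := hall
      have hcop : IsRelPrime q (pderiv i q) :=
        (hq.isRelPrime_iff_not_dvd).mpr (not_dvd_pderiv q i hi)
      exact Poly.false_of_isRelPrime_of_mem 𝔫 𝔪' hlt q (pderiv i q) hq.ne_zero
        ((hmem𝔫 q).mpr hGq) ((hmem𝔫 _).mpr (hder i)) hcop
  · obtain ⟨A, hA⟩ := hGq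
    have hGA : ¬ G₁ ∣ A := by
      rintro ⟨A', rfl⟩
      apply hsq
      rw [hA]
      exact ⟨A', by ring⟩
    have hm₁0 : m₁ ≠ 0 := by
      rintro rfl
      rw [mul_zero] at hfm
      exact hf0 hfm
    have h1 : A * TP a m₁ = G₁ * H₁ := by
      have : G₁ * (A * TP a m₁) = G₁ * (G₁ * H₁) := by
        rw [← mul_assoc, ← hA, ← map_mul, ← hfm, hF]
        ring
      exact mul_left_cancel₀ hG0 this
    have h2 : G₁ ∣ TP a m₁ := by
      rcases hp.dvd_or_dvd (⟨H₁, h1⟩ : G₁ ∣ A * TP a m₁) with h | h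
      · exact absurd h hGA
      · exact h
    obtain ⟨q', m₂, hq', hm₂, hGq'⟩ := exists_irreducible_factor a G₁ hp m₁ hm₁0 h2
    by_cases hass : q ∣ q'
    · obtain ⟨c, hc⟩ := hass
      have hcu : IsUnit c := by
        rcases hq'.isUnit_or_isUnit hc with h | h
        · exact absurd h hq.not_isUnit
        · exact h
      have hfq : f = q ^ 2 * (c * m₂) := by
        rw [hfm, hm₂, hc]
        ring
      have h3 : A ^ 2 * TP a (c * m₂) = H₁ := by
        have : G₁ ^ 2 * (A ^ 2 * TP a (c * m₂)) = G₁ ^ 2 * H₁ := by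
          rw [← hF, hfq, map_mul (TP a) (q ^ 2), map_pow, hA]
          ring
        exact mul_left_cancel₀ (pow_ne_zero 2 hG0) this
      rw [← h3] at hH
      have hAu : IsUnit A := by
        have := isUnit_of_mul_isUnit_left hH
        exact (isUnit_pow_iff two_ne_zero).mp this
      have hhu : IsUnit (TP a (c * m₂)) := isUnit_of_mul_isUnit_right hH
      refine ⟨q, c * m₂, hfq, (isUnit_TP_iff a _).mp hhu, ?_, ?_⟩
      · rw [← TP_mem_maximalIdeal_iff, hA]
        exact Ideal.mul_mem_right _ _ hG1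
      · by_contra hcon
        push Not at hcon
        have hq0 : eval a q = 0 := by
          rw [← TP_mem_maximalIdeal_iff, hA]
          exact Ideal.mul_mem_right _ _ hG1
        have h4 : TP a q ∈ IsLocalRing.maximalIdeal (MvPowerSeries (Fin 2) k) ^ 2 :=
          (TP_mem_sq_iff a q).mpr ⟨hq0, hcon⟩
        obtain ⟨A', hA'⟩ := hAu.exists_right_inv
        apply hG2
        have : G₁ = TP a q * A' := by
          rw [hA, mul_assoc, hA', mul_one]
        rw [this]
        exact Ideal.mul_mem_right _ _ h4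
    · exfalso
      have hcop : IsRelPrime q q' := (hq.isRelPrime_iff_not_dvd).mpr hass
      exact Poly.false_of_isRelPrime_of_mem 𝔫 𝔪' hlt q q' hq.ne_zero
        ((hmem𝔫 q).mpr ⟨A, hA⟩) ((hmem𝔫 _).mpr hGq') hcop

end H5ArSing.Sq
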