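import Mathlib
import Groth.Agent.Lib.Helper5.ArSing.Sq4

/-!
# The double-line criterion (helper5, S14310)
-/

set_option autoImplicit false
universe u

namespace H5ArSing.Sq

open MvPowerSeries Coord

variable (k : Type u) [Field k]

/-- the square of a regular parameter (in good coordinates) cuts out a double line. -/
theorem nonempty_equiv_sq_aux (G : MvPowerSeries (Fin 2) k) (h0 : cf G 0 0 = 0)
    (h1 : cf G 0 1 ≠ 0) :
    Nonempty ((MvPowerSeries (Fin 2) k ⧸ Ideal.span {G ^ 2}) ≃ₐ[k]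
      (MvPowerSeries (Fin 2) k ⧸ Ideal.span {(X 1 : MvPowerSeries (Fin 2) k) ^ 2})) := by
  obtain ⟨f₁, h₁, hm, hd, hmem, hu, hEq, hdist⟩ := exists_weierstrass k G 1
    (by rwa [← cf_zero_left])
    (by
      intro i hi
      interval_cases i
      rwa [← cf_zero_left])
  have H : (E k (G ^ 2)).IsWeierstrassFactorization (f₁ ^ 2) (h₁ ^ 2) :=
    ⟨by rw [pow_two]; exact hdist.mul hdist, hu.pow 2, by
      rw [map_pow, hEq, Polynomial.coe_pow, mul_pow]⟩
  let e1 : (MvPowerSeries (Fin 2) k ⧸ Ideal.span {G ^ 2}) ≃ₐ[k]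
      (PowerSeries (P₁ k) ⧸ Ideal.span {E k (G ^ 2)}) :=
    Ideal.quotientEquivAlg _ _ (E k) (by
      rw [Ideal.map_span, Set.image_singleton]
      rfl)
  have hf₁ : f₁ = Polynomial.X + Polynomial.C (f₁.coeff 0) := hm.eq_X_add_C hd
  let e2 : (Polynomial (P₁ k) ⧸ Ideal.span {(Polynomial.X ^ 2 : Polynomial (P₁ k))}) ≃ₐ[P₁ k]
      (Polynomial (P₁ k) ⧸ Ideal.span {f₁ ^ 2}) :=
    Ideal.quotientEquivAlg _ _ (Polynomial.algEquivAevalXAddC (f₁.coeff 0)) (by
      rw [Ideal.map_span, Set.image_singleton]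
      have h1 : (Polynomial.algEquivAevalXAddC (f₁.coeff 0) :
          Polynomial (P₁ k) →+* Polynomial (P₁ k)) (Polynomial.X ^ 2) = f₁ ^ 2 := by
        change Polynomial.algEquivAevalXAddC (f₁.coeff 0) (Polynomial.X ^ 2) = _
        rw [map_pow, Polynomial.algEquivAevalXAddC_apply, Polynomial.aeval_X, ← hf₁]
      rw [h1])
  have hX2 : (Polynomial.X ^ 2 : Polynomial (P₁ k)).IsDistinguishedAt
      (IsLocalRing.maximalIdeal (P₁ k)) := by
    refine ⟨⟨?_⟩, Polynomial.monic_X_pow 2⟩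
    intro n hn
    rw [Polynomial.natDegree_X_pow] at hn
    rw [Polynomial.coeff_X_pow, if_neg (by omega)]
    exact zero_mem _
  obtain ⟨e4⟩ := nonempty_equiv_of_distinguished k _ hX2
  have hE : (E k).symm (((Polynomial.X ^ 2 : Polynomial (P₁ k)) : PowerSeries (P₁ k))) =
      (X 1 : MvPowerSeries (Fin 2) k) ^ 2 := by
    rw [Polynomial.coe_pow, Polynomial.coe_X, map_pow, E_symm_X]
  rw [hE] at e4
  exact ⟨e1.trans ((H.algEquivQuotient.restrictScalars k).symm.trans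
    ((e2.restrictScalars k).symm.trans e4))⟩

/-- the square of a regular parameter cuts out a double line. -/
theorem nonempty_equiv_sq (G : MvPowerSeries (Fin 2) k)
    (hG1 : G ∈ IsLocalRing.maximalIdeal (MvPowerSeries (Fin 2) k))
    (hG2 : G ∉ IsLocalRing.maximalIdeal (MvPowerSeries (Fin 2) k) ^ 2) :
    Nonempty ((MvPowerSeries (Fin 2) k ⧸ Ideal.span {G ^ 2}) ≃ₐ[k]
      (MvPowerSeries (Fin 2) k ⧸ Ideal.span {(X 1 : MvPowerSeries (Fin 2) k) ^ 2})) := by
  have h00 : cf G 0 0 = 0 := by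
    rw [← pow_one (IsLocalRing.maximalIdeal (MvPowerSeries (Fin 2) k)), mem_pow_iff] at hG1
    exact hG1 0 0 (by norm_num)
  by_cases hβ : cf G 0 1 = 0
  · have hα : cf G 1 0 ≠ 0 := by
      intro hα
      apply hG2
      rw [mem_pow_iff]
      intro p q hpq
      have : (p = 0 ∧ q = 0) ∨ (p = 1 ∧ q = 0) ∨ (p = 0 ∧ q = 1) := by omega
      rcases this with ⟨rfl, rfl⟩ | ⟨rfl, rfl⟩ | ⟨rfl, rfl⟩ <;> assumption
    obtain ⟨e⟩ := nonempty_equiv_sq_aux k (sw G) (by rw [cf_sw]; exact h00)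
      (by rw [cf_sw]; exact hα)
    have e' := transport k sw (G ^ 2)
    rw [map_pow] at e'
    exact ⟨e'.trans e⟩
  · exact nonempty_equiv_sq_aux k G h00 hβ

variable {k}

open MvPolynomial in
/-- **S14310**: the completed local ring of `f = 0` at `a` is a double line iff `f = g² h` with
`h(a) ≠ 0` and `g` smooth at `a`. -/
theorem main14310 [IsAlgClosed k] (f : MvPolynomial (Fin 2) k) (a : Fin 2 → k) :
    Nonempty ((MvPowerSeries (Fin 2) k ⧸ Ideal.span
        ({(MvPolynomial.aeval (fun i : Fin 2 => MvPolynomial.X i + MvPolynomial.C (a i))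
          f).toMvPowerSeries} : Set (MvPowerSeries (Fin 2) k))) ≃ₐ[k]
      (MvPowerSeries (Fin 2) k ⧸ Ideal.span
        ({MvPowerSeries.X 1 ^ 2} : Set (MvPowerSeries (Fin 2) k)))) ↔
    ∃ g h : MvPolynomial (Fin 2) k, f = g ^ 2 * h ∧ MvPolynomial.eval a h ≠ 0 ∧
      MvPolynomial.eval a g = 0 ∧
      ∃ i : Fin 2, MvPolynomial.eval a (MvPolynomial.pderiv i g) ≠ 0 := by
  rw [← Taylor.F_def]
  constructor
  · rintro ⟨e⟩
    obtain ⟨G₁, H₁, hH, hF, hG1, hG2, ⟨e'⟩⟩ := exists_sq_factor (Taylor.F a f) e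
    have hG0 : G₁ ≠ 0 := by
      rintro rfl
      exact hG2 (zero_mem _)
    have hprime : (Ideal.span {G₁}).IsPrime := by
      rw [← Ideal.Quotient.isDomain_iff_prime]
      exact e'.injective.isDomain e'.toRingHom
    have hp : Prime G₁ := (Ideal.span_singleton_prime hG0).mp hprime
    exact exists_poly_factor a f G₁ H₁ hH hF hG1 hG2 hp
  · rintro ⟨g, h, hf, hh, hg, i, hi⟩
    have hHu : IsUnit (TP a h) := (isUnit_TP_iff a h).mpr hh
    have hG1 : TP a g ∈ IsLocalRing.maximalIdeal (MvPowerSeries (Fin 2) k) :=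
      (TP_mem_maximalIdeal_iff a g).mpr hg
    have hG2 : TP a g ∉ IsLocalRing.maximalIdeal (MvPowerSeries (Fin 2) k) ^ 2 := by
      rw [TP_mem_sq_iff]
      rintro ⟨-, h'⟩
      exact hi (h' i)
    obtain ⟨e⟩ := nonempty_equiv_sq k (TP a g) hG1 hG2
    have hspan : Ideal.span {Taylor.F a f} = Ideal.span {TP a g ^ 2} := by
      rw [← TP_apply, hf, map_mul, map_pow]
      exact Ideal.span_singleton_mul_right_unit hHu _
    exact ⟨(Ideal.quotientEquivAlgOfEq k hspan).trans e⟩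

end H5ArSing.Sq
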