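import Groth.Agent.Lib.Helper5.ArSing.Length

set_option autoImplicit false
universe u

namespace H5ArSing

open MvPowerSeries

variable {k : Type u} [Field k] {r : ℕ}

lemma two_ne_zero_P (h2 : (2 : k) ≠ 0) : (2 : PowerSeries k) ≠ 0 := by
  intro h
  have := congrArg (PowerSeries.constantCoeff (R := k)) h
  simp at this
  exact h2 this

lemma eq_zero_of_neg_eq (h2 : (2 : k) ≠ 0) {q : PowerSeries k} (h : -q = q) : q = 0 := by
  have : (2 : PowerSeries k) * q = 0 := by linear_combination -h
  exact (mul_eq_zero.mp this).resolve_left (two_ne_zero_P h2)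

section neg_y

variable (σ : ArSing.ring k r ≃ₐ[k] ArSing.ring k r) (hx : σ (ArSing.x k r) = ArSing.x k r)
  (hy : σ (ArSing.y k r) = -ArSing.y k r)

include hx in
lemma σ_xMap (a : PowerSeries k) : σ (ArSing.xMap k r a) = ArSing.xMap k r a := by
  have : (σ : ArSing.ring k r →ₐ[k] ArSing.ring k r).comp (ArSing.xMap k r) = ArSing.xMap k r := by
    apply ext_P (𝔫 k r) (sep k r)
    · rw [AlgHom.comp_apply, xMap_X]
      change σ (ArSing.x k r) ∈ _
      rw [hx]; exact x_mem k r
    · rw [AlgHom.comp_apply, xMap_X]
      exact hx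
  exact DFunLike.congr_fun this a

include hx hy in
lemma σ_apply (a b : PowerSeries k) :
    σ (ArSing.xMap k r a + ArSing.xMap k r b * ArSing.y k r) =
      ArSing.xMap k r a + ArSing.xMap k r (-b) * ArSing.y k r := by
  rw [map_add, map_mul, σ_xMap σ hx, σ_xMap σ hx, hy, map_neg]
  ring

end neg_y



section tools

variable (k r)

lemma mul_formula (a b c d : PowerSeries k) :
    (ArSing.xMap k r a + ArSing.xMap k r b * ArSing.y k r) *
      (ArSing.xMap k r c + ArSing.xMap k r d * ArSing.y k r) =
    ArSing.xMap k r (a * c + b * d * PowerSeries.X ^ (r + 1)) +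
      ArSing.xMap k r (a * d + b * c) * ArSing.y k r := by
  have hy := y_sq k r
  simp only [map_add, map_mul] at hy ⊢
  linear_combination (ArSing.xMap k r b * ArSing.xMap k r d) * hy

lemma y_mem_nzd : ArSing.y k r ∈ nonZeroDivisors (ArSing.ring k r) := by
  rw [mem_nonZeroDivisors_iff_right]
  intro z hz
  obtain ⟨a, b, rfl⟩ := struct k r z
  have h1 : (ArSing.xMap k r a + ArSing.xMap k r b * ArSing.y k r) * ArSing.y k r =
      ArSing.xMap k r (b * PowerSeries.X ^ (r + 1)) + ArSing.xMap k r a * ArSing.y k r := by
    have := mul_formula k r a b 0 1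
    simpa using this
  rw [h1] at hz
  obtain ⟨h2, h3⟩ := struct_zero k r hz
  have hb : b = 0 := by
    rcases mul_eq_zero.mp h2 with h | h
    · exact h
    · exact absurd h (pow_ne_zero _ PowerSeries.X_ne_zero)
  rw [h3, hb]; simp

/-- flatness of `xMap` -/
lemma xMap_flat : (ArSing.xMap k r).toRingHom.Flat := by
  letI : Algebra (PowerSeries k) (ArSing.ring k r) := (ArSing.xMap k r).toRingHom.toAlgebra
  change Module.Flat (PowerSeries k) (ArSing.ring k r)
  have hsmul : ∀ (p : PowerSeries k) (z : ArSing.ring k r), p • z = ArSing.xMap k r p * z :=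
    fun p z => rfl
  let φ : (PowerSeries k × PowerSeries k) →ₗ[PowerSeries k] ArSing.ring k r :=
    { toFun := fun p => ArSing.xMap k r p.1 + ArSing.xMap k r p.2 * ArSing.y k r
      map_add' := by
        intro p q
        simp only [Prod.fst_add, Prod.snd_add, map_add]
        ring
      map_smul' := by
        intro c p
        simp only [Prod.smul_fst, Prod.smul_snd, smul_eq_mul, map_mul, RingHom.id_apply, hsmul]
        ring }
  have hφ : Function.Bijective φ := by
    constructor
    · intro p q h
      obtain ⟨h1, h2⟩ := struct_inj k r h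
      exact Prod.ext h1 h2
    · intro z
      obtain ⟨a, b, rfl⟩ := struct k r z
      exact ⟨(a, b), rfl⟩
  exact Module.Flat.of_linearEquiv (LinearEquiv.ofBijective φ hφ).symm

lemma aug_xMap (a : PowerSeries k) :
    aug k r (ArSing.xMap k r a) = PowerSeries.constantCoeff a := by
  simp only [ArSing.xMap, AlgHom.comp_apply, Ideal.Quotient.mkₐ_eq_mk, aug_mk,
    PowerSeries.coe_substAlgHom]
  rw [← PowerSeries.toMvPowerSeries_eq_subst, PowerSeries.toMvPowerSeries_apply,
    constantCoeff_rename]
  rfl

lemma map_maximalIdeal_ne_top :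
    Ideal.map (ArSing.xMap k r) (IsLocalRing.maximalIdeal (PowerSeries k)) ≠ ⊤ := by
  intro h
  have hle : Ideal.map (ArSing.xMap k r) (IsLocalRing.maximalIdeal (PowerSeries k)) ≤
      RingHom.ker (aug k r) := by
    rw [Ideal.map_le_iff_le_comap]
    intro a ha
    rw [Ideal.mem_comap, RingHom.mem_ker]
    change aug k r (ArSing.xMap k r a) = 0
    rw [aug_xMap]
    rw [PowerSeries.maximalIdeal_eq_span_X, Ideal.mem_span_singleton, PowerSeries.X_dvd_iff] at ha
    exact ha
  have : (1 : ArSing.ring k r) ∈ RingHom.ker (aug k r) := hle (h ▸ Submodule.mem_top)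
  rw [RingHom.mem_ker, map_one] at this
  exact one_ne_zero this

end tools



section lengthtool

variable (k r)

/-- compute the length of a quotient of `A_r` by a `k`-linear surjection onto `k^n` -/
theorem length_quot_eq (I : Ideal (ArSing.ring k r)) (n : ℕ) (L : ArSing.ring k r →ₗ[k] (Fin n → k))
    (hL : Function.Surjective L) (hker : ∀ z, L z = 0 ↔ z ∈ I) :
    Module.length (ArSing.ring k r) (ArSing.ring k r ⧸ I) = n := by
  rw [length_eq k r]
  have hk : (I.restrictScalars k : Submodule k (ArSing.ring k r)) = LinearMap.ker L := by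
    ext z
    rw [LinearMap.mem_ker, hker]
    rfl
  let e : (ArSing.ring k r ⧸ I) ≃ₗ[k] (Fin n → k) :=
    (Submodule.Quotient.restrictScalarsEquiv k I).symm ≪≫ₗ
      (Submodule.quotEquivOfEq _ _ hk) ≪≫ₗ (L.quotKerEquivOfSurjective hL)
  rw [e.length_eq, Module.length_eq_finrank, Module.finrank_fin_fun]

/-- coordinates as a `k`-linear equivalence -/
noncomputable def coords : (PowerSeries k × PowerSeries k) ≃ₗ[k] ArSing.ring k r :=
  LinearEquiv.ofBijective
    { toFun := fun p => ArSing.xMap k r p.1 + ArSing.xMap k r p.2 * ArSing.y k r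
      map_add' := by
        intro p q
        simp only [Prod.fst_add, Prod.snd_add, map_add]
        ring
      map_smul' := by
        intro c p
        simp only [Prod.smul_fst, Prod.smul_snd, map_smul, RingHom.id_apply, smul_add,
          smul_mul_assoc] }
    (by
      constructor
      · intro p q h
        obtain ⟨h1, h2⟩ := struct_inj k r h
        exact Prod.ext h1 h2
      · intro z
        obtain ⟨a, b, rfl⟩ := struct k r z
        exact ⟨(a, b), rfl⟩)

lemma coords_apply (p : PowerSeries k × PowerSeries k) :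
    coords k r p = ArSing.xMap k r p.1 + ArSing.xMap k r p.2 * ArSing.y k r := rfl

lemma coords_symm (a b : PowerSeries k) :
    (coords k r).symm (ArSing.xMap k r a + ArSing.xMap k r b * ArSing.y k r) = (a, b) := by
  rw [LinearEquiv.symm_apply_eq]; rfl

end lengthtool

end H5ArSing
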